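import Groth.Prelude.Def_NonAbH2
import Groth.Prelude.Def_Red
import Mathlib.AlgebraicGeometry.Morphisms.Smooth

/-!
# Extending an extension from a fibre along which maps to the kernel extend uniquely
-/

set_option autoImplicit false
set_option backward.isDefEq.respectTransparency false
set_option linter.style.haveILetI false
set_option synthInstance.maxHeartbeats 400000

universe u

open CategoryTheory CategoryTheory.Limits MonoidalCategory CartesianMonoidalCategory AlgebraicGeometry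
open scoped MonObj

namespace GrothLib.TorsorTriv19

theorem smooth_tensor {S : Scheme.{u}} (A B : Over S) [Smooth A.hom] [Smooth B.hom] : Smooth (A ⊗ B).hom :=
  inferInstanceAs (Smooth (pullback.fst A.hom B.hom ≫ A.hom))

theorem smooth_unit (S : Scheme.{u}) : Smooth (𝟙_ (Over S)).hom := inferInstanceAs (Smooth (𝟙 S))

/-- An extension of `F P` by `F G` with underlying scheme `F (G ⊗ P)`, `F` a base change, comes from an
extension of `P` by `G`, if maps from smooth schemes to `G` extend uniquely. -/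
theorem exists_extension {K S : Scheme.{u}} (i : K ⟶ S) {G P X : Over S} [GrpObj G] [GrpObj P]
    [Smooth G.hom] [Smooth X.hom] (prG : X ⟶ G) (prP : X ⟶ P)
    (hprod : ∀ T : Over S, Function.Bijective (fun x : T ⟶ X => (x ≫ prG, x ≫ prP)))
    (hprodF : ∀ (T : Over K) (a b : T ⟶ Red.bc i X), a ≫ (Over.pullback i).map prG = b ≫ (Over.pullback i).map prG →
      a ≫ (Over.pullback i).map prP = b ≫ (Over.pullback i).map prP → a = b)
    (hbij : ∀ T : Over S, Smooth T.hom →
      Function.Bijective (fun g : T ⟶ G => (Over.pullback i).map g))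
    {E' : Over K} [GrpObj E'] {u' : Red.bc i G ⟶ E'} {v' : E' ⟶ Red.bc i P} [IsMonHom u'] [IsMonHom v']
    (huv : u' ≫ v' = 1) (ψ : Red.bc i X ≅ E') (hψv : ψ.hom ≫ v' = (Over.pullback i).map prP)
    (uX : G ⟶ X) (huX₁ : uX ≫ prG = 𝟙 G) (huX₂ : uX ≫ prP = 1)
    (hψu : (Over.pullback i).map uX ≫ ψ.hom = u') :
    ∃ (_ : GrpObj X) (u : G ⟶ X) (v : X ⟶ P) (φ : Red.bc i X ≅ E'),
      NonAbH1.IsExactSeq Scheme.fppfPrecoverage u v ∧ IsMonHom φ.hom ∧
        (Over.pullback i).map u ≫ φ.hom = u' ∧ φ.hom ≫ v' = (Over.pullback i).map v := by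
  let F := Over.pullback i
  have hX : ∀ {T : Over S} (a b : T ⟶ X), a ≫ prG = b ≫ prG → a ≫ prP = b ≫ prP → a = b :=
    fun a b h₁ h₂ => (hprod _).1 (Prod.ext h₁ h₂)
  have hinj : ∀ {T : Over S}, Smooth T.hom → ∀ a b : T ⟶ X, a ≫ prP = b ≫ prP →
      F.map a ≫ ψ.hom = F.map b ≫ ψ.hom → a = b := fun {T} hT a b h₁ h₂ => by
    refine hX a b ((hbij T hT).1 ?_) h₁
    show F.map (a ≫ prG) = F.map (b ≫ prG)
    rw [F.map_comp, F.map_comp, (cancel_mono ψ.hom).1 h₂]
  have hmk : ∀ {T : Over S}, Smooth T.hom → ∀ (p : T ⟶ P) (e : F.obj T ⟶ E'), e ≫ v' = F.map p →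
      ∃ x : T ⟶ X, x ≫ prP = p ∧ F.map x ≫ ψ.hom = e := fun {T} hT p e he => by
    obtain ⟨g, hg⟩ := (hbij T hT).2 (e ≫ ψ.inv ≫ F.map prG)
    obtain ⟨x, hx⟩ := (hprod T).2 (g, p)
    have hx₁ : x ≫ prG = g := congrArg Prod.fst hx
    have hx₂ : x ≫ prP = p := congrArg Prod.snd hx
    refine ⟨x, hx₂, ?_⟩
    rw [← Iso.eq_comp_inv]
    refine hprodF _ _ _ ?_ ?_
    · show F.map x ≫ F.map prG = (e ≫ ψ.inv) ≫ F.map prG
      rw [← F.map_comp, hx₁, Category.assoc]; exact hg
    · show F.map x ≫ F.map prP = (e ≫ ψ.inv) ≫ F.map prP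
      rw [← F.map_comp, hx₂, ← hψv, Category.assoc, Iso.inv_hom_id_assoc, he]
  have hv : ∀ {T : Over S} (a : T ⟶ X), (F.map a ≫ ψ.hom) ≫ v' = F.map (a ≫ prP) := fun a => by
    rw [Category.assoc, hψv, F.map_comp]
  have h1 : Smooth (𝟙_ (Over S)).hom := smooth_unit S
  have h2 : Smooth (X ⊗ X).hom := smooth_tensor X X
  haveI := h1
  haveI := h2
  have h3 : Smooth ((X ⊗ X) ⊗ X).hom := smooth_tensor _ _
  -- the structure
  obtain ⟨one, hone₁, hone₂⟩ := hmk h1 (1 : 𝟙_ (Over S) ⟶ P) (1 : F.obj (𝟙_ (Over S)) ⟶ E')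
    (by rw [MonObj.one_comp]; exact (Functor.map_one (F := F)).symm)
  obtain ⟨mul, hmul₁, hmul₂⟩ := hmk h2 ((fst X X ≫ prP) * (snd X X ≫ prP))
    ((F.map (fst X X) ≫ ψ.hom) * (F.map (snd X X) ≫ ψ.hom))
    (by rw [MonObj.mul_comp, hv, hv]; exact (Functor.map_mul F _ _).symm)
  obtain ⟨inv', hinv₁, hinv₂⟩ := hmk ‹Smooth X.hom› (prP)⁻¹ (ψ.hom)⁻¹
    (by
      rw [GrpObj.inv_comp, hψv]
      refine (eq_inv_of_mul_eq_one_left ?_).symm
      rw [← Functor.map_mul (F := F), inv_mul_cancel, Functor.map_one (F := F)])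
  have kP : ∀ {T : Over S} (a b : T ⟶ X), (lift a b ≫ mul) ≫ prP = (a ≫ prP) * (b ≫ prP) := fun a b => by
    rw [Category.assoc, hmul₁, MonObj.comp_mul, lift_fst_assoc, lift_snd_assoc]
  have kE : ∀ {T : Over S} (a b : T ⟶ X),
      F.map (lift a b ≫ mul) ≫ ψ.hom = (F.map a ≫ ψ.hom) * (F.map b ≫ ψ.hom) := fun a b => by
    rw [F.map_comp, Category.assoc, hmul₂, MonObj.comp_mul, ← Category.assoc, ← Category.assoc,
      ← F.map_comp, ← F.map_comp, lift_fst, lift_snd]
  have k1P : ∀ (T : Over S), (toUnit T ≫ one) ≫ prP = 1 := fun T => by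
    rw [Category.assoc, hone₁, MonObj.comp_one]
  have k1E : ∀ (T : Over S), F.map (toUnit T ≫ one) ≫ ψ.hom = 1 := fun T => by
    rw [F.map_comp, Category.assoc, hone₂, MonObj.comp_one]
  haveI hl : Smooth (𝟙_ (Over S) ⊗ X).hom := smooth_tensor _ _
  haveI hr : Smooth (X ⊗ 𝟙_ (Over S)).hom := smooth_tensor _ _
  let M : GrpObj X :=
  { one := one
    mul := mul
    one_mul := by
      have e : one ▷ X = lift (toUnit (𝟙_ (Over S) ⊗ X) ≫ one) (snd _ X) := by
        apply CartesianMonoidalCategory.hom_ext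
        · rw [whiskerRight_fst, lift_fst, toUnit_unique (toUnit _) (fst _ X)]
        · rw [whiskerRight_snd, lift_snd]
      rw [e, leftUnitor_hom]
      refine hinj hl _ _ ?_ ?_
      · rw [kP, k1P, _root_.one_mul]
      · rw [kE, k1E, _root_.one_mul]
    mul_one := by
      have e : X ◁ one = lift (fst X _) (toUnit (X ⊗ 𝟙_ (Over S)) ≫ one) := by
        apply CartesianMonoidalCategory.hom_ext
        · rw [whiskerLeft_fst, lift_fst]
        · rw [whiskerLeft_snd, lift_snd, toUnit_unique (toUnit _) (snd X _)]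
      rw [e, rightUnitor_hom]
      refine hinj hr _ _ ?_ ?_
      · rw [kP, k1P, _root_.mul_one]
      · rw [kE, k1E, _root_.mul_one]
    mul_assoc := by
      have e₁ : mul ▷ X = lift (fst (X ⊗ X) X ≫ mul) (snd (X ⊗ X) X) := by
        apply CartesianMonoidalCategory.hom_ext <;> simp
      have e₂ : (α_ X X X).hom ≫ (X ◁ mul) = lift (fst (X ⊗ X) X ≫ fst X X)
          (lift (fst (X ⊗ X) X ≫ snd X X) (snd (X ⊗ X) X) ≫ mul) := by
        apply CartesianMonoidalCategory.hom_ext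
        · simp
        · simp only [Category.assoc, whiskerLeft_snd, lift_snd]
          rw [← Category.assoc]
          congr 1
          apply CartesianMonoidalCategory.hom_ext <;> simp
      rw [e₁, reassoc_of% e₂]
      have e₃ : fst (X ⊗ X) X ≫ mul = lift (fst (X ⊗ X) X ≫ fst X X) (fst (X ⊗ X) X ≫ snd X X) ≫ mul := by
        rw [← comp_lift, lift_fst_snd, Category.comp_id]
      rw [e₃]
      refine hinj h3 _ _ ?_ ?_
      · rw [kP, kP, kP, kP, _root_.mul_assoc]
      · rw [kE, kE, kE, kE, _root_.mul_assoc]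
    inv := inv'
    left_inv := by
      refine hinj ‹Smooth X.hom› _ _ ?_ ?_
      · show (lift inv' (𝟙 X) ≫ mul) ≫ prP = (toUnit X ≫ one) ≫ prP
        rw [kP, k1P, hinv₁, Category.id_comp, inv_mul_cancel]
      · show F.map (lift inv' (𝟙 X) ≫ mul) ≫ ψ.hom = F.map (toUnit X ≫ one) ≫ ψ.hom
        rw [kE, k1E, hinv₂, F.map_id, Category.id_comp, inv_mul_cancel]
    right_inv := by
      refine hinj ‹Smooth X.hom› _ _ ?_ ?_
      · show (lift (𝟙 X) inv' ≫ mul) ≫ prP = (toUnit X ≫ one) ≫ prP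
        rw [kP, k1P, hinv₁, Category.id_comp, mul_inv_cancel]
      · show F.map (lift (𝟙 X) inv' ≫ mul) ≫ ψ.hom = F.map (toUnit X ≫ one) ≫ ψ.hom
        rw [kE, k1E, hinv₂, F.map_id, Category.id_comp, mul_inv_cancel] }
  letI := M
  have mulP : ∀ {T : Over S} (a b : T ⟶ X), (a * b) ≫ prP = (a ≫ prP) * (b ≫ prP) := fun a b => by
    rw [Hom.mul_def]; exact kP a b
  have mulE : ∀ {T : Over S} (a b : T ⟶ X),
      F.map (a * b) ≫ ψ.hom = (F.map a ≫ ψ.hom) * (F.map b ≫ ψ.hom) := fun a b => by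
    rw [Hom.mul_def a b]; exact kE a b
  haveI hvmon : IsMonHom prP :=
    ⟨hone₁.trans (by rw [Hom.one_def, toUnit_unit, Category.id_comp]), by
      show mul ≫ prP = _
      rw [hmul₁, Hom.mul_def]
      congr 1⟩
  haveI hGG : Smooth (G ⊗ G).hom := smooth_tensor _ _
  haveI humon : IsMonHom uX := by
    refine ⟨hinj h1 _ _ ?_ ?_, hinj hGG _ _ ?_ ?_⟩
    · show (η[G] ≫ uX) ≫ prP = one ≫ prP
      rw [Category.assoc, huX₂, hone₁, MonObj.comp_one]
    · show F.map (η[G] ≫ uX) ≫ ψ.hom = F.map one ≫ ψ.hom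
      rw [F.map_comp, Category.assoc, hψu, hone₂,
        show η[G] = (1 : 𝟙_ (Over S) ⟶ G) by rw [Hom.one_def, toUnit_unit, Category.id_comp],
        Functor.map_one, MonObj.one_comp]
    · have e : (uX ⊗ₘ uX) ≫ μ[X] = (fst G G ≫ uX) * (snd G G ≫ uX) := by
        rw [Hom.mul_def]
        congr 1
      rw [e, mulP, Category.assoc, Category.assoc, Category.assoc, huX₂, MonObj.comp_one, MonObj.comp_one,
        MonObj.comp_one]
      simp
    · have e : (uX ⊗ₘ uX) ≫ μ[X] = (fst G G ≫ uX) * (snd G G ≫ uX) := by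
        rw [Hom.mul_def]
        congr 1
      have eμ : μ[G] = fst G G * snd G G := by rw [Hom.mul_def, lift_fst_snd, Category.id_comp]
      rw [e, mulE, F.map_comp, Category.assoc, hψu, eμ, Functor.map_mul, MonObj.mul_comp]
      simp only [F.map_comp, Category.assoc]
      erw [hψu]
  have huv' : uX ≫ prP = 1 := huX₂
  have hsq : IsPullback (fst X G) ((X ◁ uX) ≫ μ[X]) prP prP := by
    have key : ∀ {T : Over S} (x : T ⟶ X) (g : T ⟶ G),
        lift x g ≫ (X ◁ uX) ≫ μ[X] = x * (g ≫ uX) := fun x g => by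
      rw [lift_whiskerLeft_assoc, ← Hom.mul_def]
    have hfac : ∀ {T : Over S} (x : T ⟶ X), x ≫ prP = 1 → x = (x ≫ prG) ≫ uX := fun x hx => by
      refine hX _ _ ?_ ?_
      · rw [Category.assoc, huX₁, Category.comp_id]
      · rw [hx, Category.assoc, huX₂, MonObj.comp_one]
    have w : fst X G ≫ prP = ((X ◁ uX) ≫ μ[X]) ≫ prP := by
      have := key (fst X G) (snd X G)
      rw [lift_fst_snd, Category.id_comp] at this
      rw [this, MonObj.mul_comp, Category.assoc, huX₂, MonObj.comp_one, _root_.mul_one]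
    refine IsPullback.of_isLimit (PullbackCone.IsLimit.mk w
      (fun c => lift c.fst ((c.fst⁻¹ * c.snd) ≫ prG)) (fun c => lift_fst _ _) (fun c => ?_) fun c l hl₁ hl₂ => ?_)
    · rw [key, ← hfac _ (by rw [MonObj.mul_comp, GrpObj.inv_comp, c.condition, inv_mul_cancel])]
      exact mul_inv_cancel_left _ _
    · apply CartesianMonoidalCategory.hom_ext
      · rw [hl₁, lift_fst]
      · rw [lift_snd]
        have hl : l = lift c.fst (l ≫ snd X G) := by
          apply CartesianMonoidalCategory.hom_ext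
          · rw [hl₁, lift_fst]
          · rw [lift_snd]
        have e : c.fst * ((l ≫ snd X G) ≫ uX) = c.snd := by rw [← key, ← hl]; exact hl₂
        rw [← e, inv_mul_cancel_left, Category.assoc, Category.assoc, huX₁, Category.comp_id]
  obtain ⟨σ, hσ⟩ := (hprod P).2 (1, 𝟙 P)
  refine ⟨M, uX, prP, ψ, ⟨humon, hvmon, huv', hsq, Presieve.singleton (𝟙 _),
    Scheme.fppfPrecoverage.mem_coverings_of_isIso _, ?_⟩, ?_, hψu, hψv⟩
  · rintro S' f ⟨⟩
    exact ⟨σ.left, congrArg CommaMorphism.left (congrArg Prod.snd hσ)⟩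
  · refine ⟨?_, ?_⟩
    · have hη : η[F.obj X] = Functor.LaxMonoidal.ε F ≫ F.map η[X] := rfl
      rw [show (η[Red.bc i X] : _) = _ from hη, Category.assoc]
      show _ ≫ F.map one ≫ ψ.hom = _
      rw [hone₂, MonObj.comp_one, Hom.one_def, toUnit_unit, Category.id_comp]
    · haveI : IsIso (lift (F.map (fst X X)) (F.map (snd X X))) :=
        inferInstanceAs (IsIso (CartesianMonoidalCategory.prodComparison F X X))
      rw [← cancel_epi (lift (F.map (fst X X)) (F.map (snd X X))), ← Category.assoc, ← Hom.mul_def,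
        ← Functor.map_mul, show fst X X * snd X X = mul by rw [Hom.mul_def, lift_fst_snd, Category.id_comp]; rfl,
        hmul₂, ← Category.assoc, lift_map, ← Hom.mul_def]

end GrothLib.TorsorTriv19
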