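import Groth.Agent.Lib.TorsorTriv19.Fibres
import Groth.Agent.Lib.GeomUnib5.Radicial

/-!
# Free transitive étale spaces of a torsion free group over smooth schemes with connected fibres
-/

set_option autoImplicit false
set_option backward.isDefEq.respectTransparency false
set_option linter.style.haveILetI false

universe u

open CategoryTheory CategoryTheory.Limits AlgebraicGeometry

namespace GrothLib.TorsorTriv19

theorem isGeomUnibranch_stalk_spec_of_field {k : CommRingCat.{u}} (hk : IsField k) (s : Spec k) :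
    CAlg2.IsGeomUnibranch ((Spec k).presheaf.stalk s) := by
  letI := hk.toField
  rw [GeomUnib.isGeomUnibranch_stalk_spec_iff]
  exact GrothLib.BrnchNhd.isGeomUnibranch_of_ringEquiv
    (IsLocalization.atUnits k s.asIdeal.primeCompl (S := Localization.AtPrime s.asIdeal)
      (fun x hx => isUnit_iff_ne_zero.2 fun h => hx (h ▸ s.asIdeal.zero_mem))).toRingEquiv
    (GeomUnib5.isGeomUnibranch_of_radicial (RingHom.id k) (fun _ h => h.eq_zero) fun r => ⟨0, r, by simp⟩)

variable {X P S : Scheme.{u}} {Z : Type*} [Group Z] (g : X ⟶ P) [Etale g] [Surjective g]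
  (act : Z → (X ⟶ X)) (hmul : ∀ m n, act m ≫ act n = act (n * m)) (hone : act 1 = 𝟙 X)
  (hover : ∀ n, act n ≫ g = g)
  (hfree : ∀ (n : Z) (K : Type u) [Field K] (x : Spec (CommRingCat.of K) ⟶ X), x ≫ act n = x → n = 1)
  (htrans : ∀ (K : Type u) [Field K] (x y : Spec (CommRingCat.of K) ⟶ X), x ≫ g = y ≫ g → ∃ n, x ≫ act n = y)

include hmul hone hover hfree htrans in
/-- On the fibre over a point there is a section. -/
theorem exists_fibre_section (hZ : ∀ z : Z, IsOfFinOrder z → z = 1) (p : P ⟶ S) [Smooth p] (s : S) :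
    ∃ σ : pullback p (S.fromSpecResidueField s) ⟶ X, σ ≫ g = pullback.fst p (S.fromSpecResidueField s) := by
  let j := pullback.fst p (S.fromSpecResidueField s)
  let g' := pullback.snd g j
  haveI : Smooth (g' ≫ pullback.snd p (S.fromSpecResidueField s)) := inferInstance
  have hS := fun t : Spec (S.residueField s) =>
    isGeomUnibranch_stalk_spec_of_field (Field.toIsField (S.residueField s)) t
  let act' : Z → (pullback g j ⟶ pullback g j) := fun n =>
    pullback.map g j g j (act n) (𝟙 _) (𝟙 _) (by rw [hover, Category.comp_id]) (by simp)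
  choose mg hmg hmax using fun z : (pullback g j : Scheme.{u}) => Unibranch.exists_maximal_generization z
  obtain ⟨σ, hσ⟩ := exists_section' hZ g' act' (fun m n => by
      apply pullback.hom_ext <;> simp [act', ← hmul])
    (by apply pullback.hom_ext <;> simp [act', hone])
    (fun n => by simp [act', g'])
    (fun n K _ x hx => hfree n K (x ≫ pullback.fst g j) (by
      conv_rhs => rw [← hx]
      simp [act']))
    (fun K _ x y hxy => by
      obtain ⟨n, hn⟩ := htrans K (x ≫ pullback.fst g j) (y ≫ pullback.fst g j) (by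
        simp only [Category.assoc, pullback.condition]
        rw [← Category.assoc x, ← Category.assoc y]
        exact congrArg (· ≫ j) hxy)
      refine ⟨n, ?_⟩
      apply pullback.hom_ext
      · simp [act', ← hn]
      · simpa [act', g'] using hxy)
    mg hmg hmax
    (fun z b hb hbm => eq_of_maximal_of_smooth (g' ≫ pullback.snd p _) hS hb (hmg z) hbm (hmax z))
    (fun z => isOpen_closure_of_maximal (g' ≫ pullback.snd p _) hS (hmax z))
  exact ⟨σ ≫ pullback.fst g j, by rw [Category.assoc, pullback.condition, ← Category.assoc, hσ, Category.id_comp]⟩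

include hmul hone hover hfree htrans in
omit [Surjective g] in
/-- The component of a point in a fibre with a section maps bijectively. -/
theorem fibre_component' (p : P ⟶ S) [GeometricallyConnected p]
    (s : S) (σs : pullback p (S.fromSpecResidueField s) ⟶ X)
    (hσs : σs ≫ g = pullback.fst p (S.fromSpecResidueField s)) (z₀ : X) (hz₀ : (g ≫ p) z₀ = s) :
    (∀ q : P, p q = s → ∃ z, z ∈ connectedComponentIn ((g ≫ p) ⁻¹' {s}) z₀ ∧ g z = q) ∧
    (∀ (K : Type u) [Field K] (x y : Spec (CommRingCat.of K) ⟶ X), x ≫ g = y ≫ g →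
      (∀ t, x t ∈ connectedComponentIn ((g ≫ p) ⁻¹' {s}) z₀) →
      (∀ t, y t ∈ connectedComponentIn ((g ≫ p) ⁻¹' {s}) z₀) → x = y) := by
  let f := g ≫ p
  let i := S.fromSpecResidueField s
  let j := pullback.fst p i
  let F : Set X := f ⁻¹' {s}
  haveI : ConnectedSpace (pullback p i : Scheme.{u}) := inferInstanceAs (ConnectedSpace (p.fiber s))
  let σn : Z → (pullback p i ⟶ X) := fun n => σs ≫ act n
  have hσn : ∀ n, σn n ≫ g = j := fun n => by
    simp only [σn, Category.assoc, hover]
    exact hσs
  let C : Z → Set X := fun n => Set.range (σn n)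
  have hCF : ∀ n, C n ⊆ F := by
    rintro n _ ⟨q, rfl⟩
    show (g ≫ p) (σn n q) = s
    rw [← Scheme.Hom.comp_apply, ← Category.assoc, hσn, pullback.condition, Scheme.Hom.comp_apply]
    exact S.fromSpecResidueField_apply s _
  have hcover : ∀ z ∈ F, ∃ n, z ∈ C n := by
    intro z hz
    let x := X.fromSpecResidueField z
    obtain ⟨c, hc⟩ : ∃ c : Spec (X.residueField z) ⟶ Spec (S.residueField s), c ≫ i = x ≫ g ≫ p := by
      have hz' : f z = s := hz
      subst hz'
      exact ⟨Spec.map (f.residueFieldMap z), f.SpecMap_residueFieldMap_fromSpecResidueField z⟩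
    let l : Spec (X.residueField z) ⟶ pullback p i := pullback.lift (x ≫ g) c (by rw [hc, Category.assoc])
    obtain ⟨n, hn⟩ := htrans (X.residueField z) (l ≫ σs) x (by
      rw [Category.assoc, hσs]; exact pullback.lift_fst _ _ _)
    refine ⟨n, l (IsLocalRing.closedPoint _), ?_⟩
    show (σs ≫ act n) (l _) = z
    rw [← Scheme.Hom.comp_apply, ← Category.assoc, hn]
    exact X.fromSpecResidueField_apply z _
  have hres : ∀ (n : Z) q, Function.Surjective (g.residueFieldMap (σn n q)) := fun n q =>
    surjective_residueFieldMap_of_comp (σn n) g j (hσn n) q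
  have hpt : ∀ (m n : Z), (C m ∩ C n).Nonempty → m = n := by
    rintro m n ⟨_, ⟨q, rfl⟩, ⟨q', hq'⟩⟩
    have hqq : q' = q := j.isEmbedding.injective (by
      rw [← hσn n, Scheme.Hom.comp_apply, hq', ← Scheme.Hom.comp_apply, hσn m, hσn n])
    subst hqq
    let w := (pullback p i).fromSpecResidueField q'
    have hmn : w ≫ σn m = w ≫ σn n :=
      hom_ext_of_surjective_residue g (σn m q') (hres m q') _ _
        (fun t => congrArg (σn m) ((pullback p i).fromSpecResidueField_apply q' t))
        (fun t => (congrArg (σn n) ((pullback p i).fromSpecResidueField_apply q' t)).trans hq')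
        ((congrArg (w ≫ ·) ((hσn m).trans (hσn n).symm)).trans (Category.assoc _ _ _).symm |> (Category.assoc _ _ _).trans)
    have := hfree (n * m⁻¹) ((pullback p i).residueField q') (w ≫ σn m) (by
      conv_rhs => rw [hmn]
      simp only [σn, Category.assoc]
      rw [hmul, inv_mul_cancel_right])
    rw [mul_inv_eq_one] at this
    exact this.symm
  have hopen : ∀ n, IsOpen (Subtype.val ⁻¹' C n : Set F) := by
    intro n
    let lf : pullback p i ⟶ pullback f i := pullback.lift (σn n) (pullback.snd p i) (by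
      rw [← Category.assoc, hσn]; exact pullback.condition)
    let π : pullback f i ⟶ pullback p i := pullback.map f i p i g (𝟙 _) (𝟙 _) (by simp [f]) (by simp)
    have hπ : IsPullback π (pullback.fst f i) (pullback.fst p i) g :=
      IsPullback.of_right (h₁₂ := pullback.snd p i) (h₂₂ := p) (v₁₃ := i)
        (by rw [show π ≫ pullback.snd p i = pullback.snd f i by simp [π]]
            exact (IsPullback.of_hasPullback f i).flip)
        (by simp [π]) (IsPullback.of_hasPullback p i).flip
    haveI : Etale π := MorphismProperty.of_isPullback hπ.flip (inferInstance : Etale g)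
    haveI : Etale (lf ≫ π) := by
      rw [show lf ≫ π = 𝟙 _ by apply pullback.hom_ext <;> simp [lf, π, hσn, j]]
      infer_instance
    haveI : Etale lf := Etale.of_comp lf π
    have ho : IsOpen (Set.range lf) := lf.isOpenMap.isOpen_range
    have heq : (Subtype.val ⁻¹' C n : Set F) = (f.fiberHomeo s) '' Set.range lf := by
      rw [← Set.range_comp]
      ext z
      constructor
      · rintro ⟨q, hq⟩
        refine ⟨q, Subtype.ext ?_⟩
        rw [← hq]
        show ((f.fiberHomeo s) (lf q)).1 = σn n q
        rw [Scheme.Hom.fiberHomeo_apply]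
        show (lf ≫ pullback.fst f i) q = _
        rw [pullback.lift_fst]
      · rintro ⟨q, rfl⟩
        refine ⟨q, ?_⟩
        show σn n q = ((f.fiberHomeo s) (lf q)).1
        rw [Scheme.Hom.fiberHomeo_apply]
        show _ = (lf ≫ pullback.fst f i) q
        rw [pullback.lift_fst]
    rw [heq]
    exact (f.fiberHomeo s).isOpenMap _ ho
  obtain ⟨n₀, hn₀⟩ := hcover z₀ hz₀
  have hpre : _root_.IsPreconnected (C n₀) := isPreconnected_range (σn n₀).continuous
  have hcomp : connectedComponentIn F z₀ = C n₀ := by
    refine subset_antisymm (fun z hz => ?_) (hpre.subset_connectedComponentIn hn₀ (hCF n₀))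
    haveI : PreconnectedSpace (connectedComponentIn F z₀) :=
      Subtype.preconnectedSpace isPreconnected_connectedComponentIn
    let inc : connectedComponentIn F z₀ → F := Set.inclusion (connectedComponentIn_subset F z₀)
    have hclosed : IsClosed (Subtype.val ⁻¹' C n₀ : Set F) := by
      refine isOpen_compl_iff.1 (isOpen_iff_forall_mem_open.2 fun w hw => ?_)
      obtain ⟨m, hm⟩ := hcover w w.2
      exact ⟨_, fun v hv hv' => hw (hpt m n₀ ⟨v, hv, hv'⟩ ▸ hm), hopen m, hm⟩
    have h1 : IsClopen (inc ⁻¹' (Subtype.val ⁻¹' C n₀)) :=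
      IsClopen.preimage (⟨hclosed, hopen n₀⟩ : IsClopen (Subtype.val ⁻¹' C n₀ : Set F)) (continuous_inclusion _)
    have h2 := h1.eq_univ ⟨⟨z₀, mem_connectedComponentIn hz₀⟩, hn₀⟩
    exact (h2.symm ▸ Set.mem_univ (⟨z, hz⟩ : connectedComponentIn F z₀) :
      (⟨z, hz⟩ : connectedComponentIn F z₀) ∈ inc ⁻¹' (Subtype.val ⁻¹' C n₀))
  refine ⟨fun q hq => ?_, fun K _ x y hxy hx hy => ?_⟩
  · obtain ⟨q', rfl⟩ : q ∈ Set.range j := by
      rw [Scheme.Pullback.range_fst]
      exact ⟨IsLocalRing.closedPoint _, (S.fromSpecResidueField_apply s _).trans hq.symm⟩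
    refine ⟨σn n₀ q', hcomp ▸ ⟨q', rfl⟩, ?_⟩
    rw [← Scheme.Hom.comp_apply, hσn]
  · let t₀ : Spec (CommRingCat.of K) := IsLocalRing.closedPoint K
    obtain ⟨q, hq⟩ : x t₀ ∈ C n₀ := hcomp ▸ hx t₀
    obtain ⟨q', hq'⟩ : y t₀ ∈ C n₀ := hcomp ▸ hy t₀
    have hqq : q = q' := j.isEmbedding.injective (by
      rw [← hσn n₀]
      exact ((congrArg g hq).trans ((congrArg (fun φ => φ t₀) hxy).trans (congrArg g hq').symm)))
    refine hom_ext_of_surjective_residue g _ (hres n₀ q) x y (fun t => ?_) (fun t => ?_) hxy
    · rw [hq, Subsingleton.elim t t₀]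
    · rw [hqq, hq', Subsingleton.elim t t₀]

include hmul hone hover hfree htrans in
/-- A free transitive étale space of a torsion free group over a smooth scheme with connected fibres has
a section through a given point over a section. -/
theorem exists_section_of_connected [IsSeparated g] (hZ : ∀ z : Z, IsOfFinOrder z → z = 1)
    (p : P ⟶ S) [Smooth p] [QuasiSeparated p] [GeometricallyConnected p]
    (e : S ⟶ P) (he : e ≫ p = 𝟙 S) (e' : S ⟶ X) (he' : e' ≫ g = e) :
    ∃ σ : P ⟶ X, σ ≫ g = 𝟙 P ∧ e ≫ σ = e' := by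
  let f := g ≫ p
  haveI : Smooth f := inferInstance
  haveI : QuasiSeparated f := inferInstance
  have hef : e' ≫ f = 𝟙 S := by rw [← Category.assoc, he', he]
  have hef' : ∀ t, f (e' t) = t := fun t => by rw [← Scheme.Hom.comp_apply, hef]; rfl
  let U : X.Opens := ⟨MoreMor.sectionComponents f e', isOpen_sectionComponents f e' hef⟩
  let π := U.ι ≫ g
  choose σs hσs using fun s => exists_fibre_section g act hmul hone hover hfree htrans hZ p s
  have key := fun s => fibre_component' g act hmul hone hover hfree htrans p s (σs s) (hσs s) (e' s) (hef' s)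
  haveI : Surjective π := ⟨fun q => by
    obtain ⟨z, hz, hzq⟩ := (key (p q)).1 q rfl
    have hfz : f z = p q := by rw [← hzq]; rfl
    exact ⟨⟨z, show z ∈ connectedComponentIn (f ⁻¹' {f z}) (e' (f z)) by rw [hfz]; exact hz⟩, hzq⟩⟩
  haveI : Surjective (pullback.diagonal π) := ⟨fun q => by
    let uq := (pullback π π).fromSpecResidueField q
    let x := (uq ≫ pullback.fst π π) ≫ U.ι
    let y := (uq ≫ pullback.snd π π) ≫ U.ι
    let t₀ : Spec ((pullback π π).residueField q) := IsLocalRing.closedPoint _
    have hxy : x ≫ g = y ≫ g := by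
      simp only [x, y, Category.assoc]
      exact congrArg (uq ≫ ·) (pullback.condition (f := π) (g := π))
    have hfxy : f (y t₀) = f (x t₀) :=
      congrArg p ((congrArg (fun φ => φ t₀) hxy).symm : g (y t₀) = g (x t₀))
    have hmem : ∀ t, x t ∈ connectedComponentIn (f ⁻¹' {f (x t₀)}) (e' (f (x t₀))) ∧
        y t ∈ connectedComponentIn (f ⁻¹' {f (x t₀)}) (e' (f (x t₀))) := fun t => by
      rw [Subsingleton.elim t t₀]
      exact ⟨((uq ≫ pullback.fst π π) t₀).2, hfxy ▸ ((uq ≫ pullback.snd π π) t₀).2⟩
    have h : uq ≫ pullback.fst π π = uq ≫ pullback.snd π π := (cancel_mono U.ι).1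
      ((key (f (x t₀))).2 _ x y hxy (fun t => (hmem t).1) (fun t => (hmem t).2))
    have hu' : (uq ≫ pullback.fst π π) ≫ pullback.diagonal π = uq := by
      apply pullback.hom_ext
      · simp
      · simpa using h
    refine ⟨(uq ≫ pullback.fst π π) (IsLocalRing.closedPoint _), ?_⟩
    rw [← Scheme.Hom.comp_apply, hu']
    exact (pullback π π).fromSpecResidueField_apply q _⟩
  haveI : IsIso (pullback.diagonal π) :=
    (isIso_iff_isOpenImmersion_and_surjective _).2 ⟨inferInstance, inferInstance⟩
  haveI : Mono π := (pullback.isIso_diagonal_iff π).1 inferInstance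
  haveI : IsOpenImmersion π := IsOpenImmersion.of_flat_of_mono π
  haveI : IsIso π := (isIso_iff_isOpenImmersion_and_surjective π).2 ⟨inferInstance, inferInstance⟩
  let le' : S ⟶ U.toScheme := IsOpenImmersion.lift U.ι e' (by
    rw [Scheme.Opens.range_ι]
    rintro _ ⟨t, rfl⟩
    show e' t ∈ connectedComponentIn (f ⁻¹' {f (e' t)}) (e' (f (e' t)))
    rw [hef']
    exact mem_connectedComponentIn (hef' t))
  have hle' : le' ≫ π = e := by rw [← Category.assoc, IsOpenImmersion.lift_fac, he']
  refine ⟨inv π ≫ U.ι, by rw [Category.assoc]; exact IsIso.inv_hom_id π, ?_⟩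
  rw [← hle', Category.assoc, IsIso.hom_inv_id_assoc]
  exact IsOpenImmersion.lift_fac _ _ _

end GrothLib.TorsorTriv19
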