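import Groth.Agent.Lib.GeomUnib.Affine
import Groth.Agent.Lib.BrnchNhd.Ascend
import Groth.Agent.Lib.AlgSp.EtSmCore
import Mathlib.AlgebraicGeometry.Morphisms.UniversallyOpen
import Mathlib.AlgebraicGeometry.Fiber

/-!
# Components of a smooth scheme over an irreducible geometrically unibranch base

The irreducible components are open, and they are disjoint.
-/

set_option autoImplicit false
set_option backward.isDefEq.respectTransparency false
set_option linter.style.haveILetI false

universe u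

open CategoryTheory CategoryTheory.Limits AlgebraicGeometry TopologicalSpace

namespace GrothLib.TorsorTriv19

variable {X S : Scheme.{u}}

theorem etale_spec_map {R : Type u} [CommRing R] {B : CommRingCat.{u}} (φ : R →+* B)
    (h : @Algebra.IsStandardEtale R B _ _ φ.toAlgebra) :
    Etale (Spec.map (CommRingCat.ofHom φ)) := by
  algebraize [φ]
  haveI : Algebra.Etale R B := inferInstance
  exact (HasRingHomProperty.Spec_iff (P := @Etale)).mpr (RingHom.etale_algebraMap.mpr this)

theorem isGeomUnibranch_poly {A : CommRingCat.{u}} (jy : Spec A ⟶ S) [IsOpenImmersion jy]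
    (hS : ∀ s : S, CAlg2.IsGeomUnibranch (S.presheaf.stalk s)) (n : ℕ)
    (w : Spec (CommRingCat.of (MvPolynomial (Fin n) A))) :
    CAlg2.IsGeomUnibranch ((Spec (CommRingCat.of (MvPolynomial (Fin n) A))).presheaf.stalk w) := by
  rw [GeomUnib.isGeomUnibranch_stalk_spec_iff]
  refine GeomUnib.isGeomUnibranch_mvPolynomial n w.asIdeal ?_
  let z : Spec A := ⟨w.asIdeal.comap (MvPolynomial.C : A →+* MvPolynomial (Fin n) A), inferInstance⟩
  exact (GeomUnib.isGeomUnibranch_stalk_spec_iff z).mp
    ((GeomUnib.isGeomUnibranch_stalk_openImmersion_iff jy z).mp (hS _))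

theorem eq_of_maximal_chart {W Y : Scheme.{u}} (e : W ⟶ Y) (he : Etale e)
    (hY : ∀ y : Y, CAlg2.IsGeomUnibranch (Y.presheaf.stalk y)) (j : W ⟶ X) (hj : IsOpenImmersion j) (v : W)
    {η₁ η₂ : X} (h₁ : η₁ ⤳ j v) (h₂ : η₂ ⤳ j v)
    (hm₁ : ∀ z, z ⤳ η₁ → z = η₁) (hm₂ : ∀ z, z ⤳ η₂ → z = η₂) : η₁ = η₂ := by
  haveI := he
  haveI := hj
  have hopen : IsOpen (Set.range j) := j.isOpenEmbedding.isOpen_range
  obtain ⟨w₁, rfl⟩ := h₁.mem_open hopen ⟨v, rfl⟩
  obtain ⟨w₂, rfl⟩ := h₂.mem_open hopen ⟨v, rfl⟩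
  have hind := j.isOpenEmbedding.isInducing
  exact congrArg j (GrothLib.Unibranch.eq_of_maximal_of_etale e v (hY _) w₁ w₂
    (hind.specializes_iff.mp h₁) (hind.specializes_iff.mp h₂)
    (fun z hz => j.isOpenEmbedding.injective (hm₁ _ (hz.map j.continuous)))
    (fun z hz => j.isOpenEmbedding.injective (hm₂ _ (hz.map j.continuous))))

/-- Only one maximal point of a scheme smooth over a geometrically unibranch base specialises to a
given point. -/
theorem eq_of_maximal_of_smooth (g : X ⟶ S) [Smooth g]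
    (hS : ∀ s : S, CAlg2.IsGeomUnibranch (S.presheaf.stalk s)) {η₁ η₂ x : X} (h₁ : η₁ ⤳ x) (h₂ : η₂ ⤳ x)
    (hm₁ : ∀ z, z ⤳ η₁ → z = η₁) (hm₂ : ∀ z, z ⤳ η₂ → z = η₂) : η₁ = η₂ := by
  obtain ⟨A, B, n, φ, jy, jv, hjy, hjv, hstd, ⟨v, rfl⟩, -⟩ := GrothLib.AlgSp.EtSm.exists_chart g x
  haveI := hjy
  exact eq_of_maximal_chart _ (etale_spec_map φ hstd) (fun w => isGeomUnibranch_poly jy hS n w) jv hjv v
    h₁ h₂ hm₁ hm₂

/-- An affine open of a flat scheme locally of finite type over an irreducible base has finitely many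
maximal points, if it lies over an affine open of the base. -/
theorem finite_maximal [IrreducibleSpace S] (g : X ⟶ S) [Flat g] [LocallyOfFiniteType g]
    {N : X.Opens} (hN : IsAffineOpen N) {U : S.Opens} (hU : IsAffineOpen U) (hNU : N ≤ g ⁻¹ᵁ U) :
    {z : X | z ∈ N ∧ ∀ w, w ⤳ z → w = z}.Finite := by
  haveI : IsAffine (N : Scheme.{u}) := hN
  haveI : IsAffine (U : Scheme.{u}) := hU
  let h := g.resLE U N hNU
  haveI : LocallyOfFiniteType h := inferInstance
  haveI : QuasiCompact h := inferInstance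
  by_cases hne : genericPoint S ∈ U
  swap
  · have : ∀ z ∈ N, False := fun z hz =>
      hne ((genericPoint_specializes (g z)).mem_open U.2 (hNU hz))
    exact Set.Finite.subset Set.finite_empty fun z hz => (this z hz.1).elim
  let η : (U : Scheme.{u}) := ⟨genericPoint S, hne⟩
  haveI : LocallyOfFiniteType (h.fiberToSpecResidueField η) :=
    inferInstanceAs (LocallyOfFiniteType (pullback.snd h ((U : Scheme.{u}).fromSpecResidueField η)))
  haveI : QuasiCompact (h.fiberToSpecResidueField η) :=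
    inferInstanceAs (QuasiCompact (pullback.snd h ((U : Scheme.{u}).fromSpecResidueField η)))
  haveI : IsLocallyNoetherian (h.fiber η) := LocallyOfFiniteType.isLocallyNoetherian (h.fiberToSpecResidueField η)
  haveI : CompactSpace (h.fiber η) := QuasiCompact.compactSpace_of_compactSpace (h.fiberToSpecResidueField η)
  haveI : IsNoetherian (h.fiber η) := { }
  let ι := N.ι.base ∘ (h.fiberι η).base
  refine ((NoetherianSpace.finite_irreducibleComponents (α := h.fiber η)).preimage
    (f := fun p : h.fiber η => closure {p}) ?_ |>.image ι).subset ?_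
  · rintro p - q - hpq
    exact ((specializes_iff_closure_subset.2 (le_of_eq hpq.symm)).antisymm
      (specializes_iff_closure_subset.2 (le_of_eq hpq))).eq
  rintro z ⟨hzN, hzmax⟩
  have hgz : g z = genericPoint S :=
    (Unibranch.maximal_map g (Flat.generalizingMap g) z hzmax _ (genericPoint_specializes (g z))).symm
  obtain ⟨p, hp⟩ : (⟨z, hzN⟩ : (N : Scheme.{u})) ∈ Set.range (h.fiberι η) := by
    rw [Scheme.Hom.range_fiberι]
    refine Subtype.ext ?_
    show U.ι (h ⟨z, hzN⟩) = genericPoint S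
    rw [← Scheme.Hom.comp_apply, Scheme.Hom.resLE_comp_ι]
    exact hgz
  have hpz : ι p = z := (congrArg N.ι.base hp).trans rfl
  refine ⟨p, Unibranch.isGenericPoint_of_maximal p fun q hq => ?_, hpz⟩
  have h1 : ι q ⤳ ι p := hq.map (N.ι.continuous.comp (h.fiberι η).continuous)
  rw [hpz] at h1
  exact (N.ι.isOpenEmbedding.injective.comp (h.fiberι η).isEmbedding.injective)
    ((hzmax _ h1).trans hpz.symm)

/-- The component of a maximal point is open. -/
theorem isOpen_closure_of_maximal [IrreducibleSpace S] (g : X ⟶ S) [Smooth g]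
    (hS : ∀ s : S, CAlg2.IsGeomUnibranch (S.presheaf.stalk s)) {e : X} (he : ∀ z, z ⤳ e → z = e) :
    IsOpen (closure ({e} : Set X)) := by
  rw [isOpen_iff_forall_mem_open]
  intro z hz
  obtain ⟨U, hU, hzU, -⟩ := exists_isAffineOpen_mem_and_subset (U := (⊤ : S.Opens)) (x := g z) trivial
  obtain ⟨N, hN, hzN, hNU⟩ := exists_isAffineOpen_mem_and_subset (U := g ⁻¹ᵁ U) (x := z) hzU
  let F : Set X := {a | a ∈ N ∧ ∀ w, w ⤳ a → w = a} \ {e}
  have hF : F.Finite := (finite_maximal g hN hU hNU).sdiff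
  refine ⟨(N : Set X) \ ⋃ a ∈ F, closure {a}, fun y hy => ?_,
    N.2.sdiff (hF.isClosed_biUnion fun a _ => isClosed_closure), hzN, ?_⟩
  · obtain ⟨a, hay, hamax⟩ := Unibranch.exists_maximal_generization y
    by_cases hae : a = e
    · exact hae ▸ hay.mem_closure
    · exact (hy.2 (Set.mem_biUnion (⟨⟨hay.mem_open N.2 hy.1, hamax⟩, hae⟩ : a ∈ F) hay.mem_closure)).elim
  · simp only [Set.mem_iUnion, exists_prop, not_exists, not_and]
    rintro a ⟨⟨-, hamax⟩, hae⟩ hza
    exact hae (eq_of_maximal_of_smooth g hS (specializes_iff_mem_closure.2 hza)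
      (specializes_iff_mem_closure.2 hz) hamax he)

end GrothLib.TorsorTriv19
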