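import Groth.Agent.Lib.TameGalois21.Scheme
import Mathlib.AlgebraicGeometry.Morphisms.FlatMono
import Mathlib.AlgebraicGeometry.ResidueField
import Mathlib.FieldTheory.Minpoly.Field
import Mathlib.RingTheory.Algebraic.Basic

/-!
# Sections of étale torsors under torsion free groups with open components

An étale separated surjection with open components on which a torsion free group acts freely and
transitively has a section.
-/

set_option autoImplicit false
set_option backward.isDefEq.respectTransparency false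
set_option linter.style.haveILetI false

universe u

open CategoryTheory CategoryTheory.Limits AlgebraicGeometry

namespace GrothLib.TorsorTriv19

variable {X P : Scheme.{u}}

theorem eq_id_of_maximal_image {Z : Type*} [Group Z] (hZ : ∀ z : Z, IsOfFinOrder z → z = 1) (g : X ⟶ P) [Etale g]
    (act : Z → (X ⟶ X)) (hmul : ∀ m n, act m ≫ act n = act (n * m)) (hover : ∀ n, act n ≫ g = g)
    (hfree : ∀ (n : Z) (K : Type u) [Field K] (x : Spec (CommRingCat.of K) ⟶ X), x ≫ act n = x → n = 1)
    (n : Z) (e : X) (he : act n e = e) : n = 1 := by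
  letI : Algebra (P.residueField (g e)) (X.residueField e) := (g.residueFieldMap e).hom.toAlgebra
  haveI : FiniteDimensional (P.residueField (g e)) (X.residueField e) :=
    GrothLib.TameGalois21.finite_residue' e g
  let ι := X.fromSpecResidueField e
  have hpow : ∀ (k : ℕ) (p : Spec (X.residueField e)), (ι ≫ act (n ^ k)) p = e := by
    intro k p
    have hp : ι p = e := X.fromSpecResidueField_apply e p
    rw [Scheme.Hom.comp_apply, hp]
    clear hp p
    induction k with
    | zero =>
      have h1 : act ((1 : Z) * n) e = act (1 : Z) e := by rw [← hmul n 1, Scheme.Hom.comp_apply, he]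
      rw [_root_.one_mul, he] at h1
      rw [pow_zero]
      exact h1.symm
    | succ k ih => rw [pow_succ, ← hmul n (n ^ k), Scheme.Hom.comp_apply, he, ih]
  -- the morphisms `Spec κ(e) ⟶ X` over `P` hitting `e` are homomorphisms of extensions
  have hrep : ∀ k : ℕ, ∃ φ : X.residueField e →ₐ[P.residueField (g e)] X.residueField e,
      ι ≫ act (n ^ k) = Spec.map (CommRingCat.ofHom φ.toRingHom) ≫ ι := by
    intro k
    let y := ι ≫ act (n ^ k)
    have hy : y (IsLocalRing.closedPoint (X.residueField e)) = e := hpow k _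
    obtain ⟨q, hq⟩ : ∃ q : X.residueField e ⟶ X.residueField e, y = Spec.map q ≫ ι := by
      obtain ⟨⟨x, q⟩, hxq⟩ := (Scheme.SpecToEquivOfField (X.residueField e) X).symm.surjective y
      have hx : x = e := by
        rw [← hy, ← hxq]
        exact (X.fromSpecResidueField_apply x _).symm
      subst hx
      exact ⟨q, hxq.symm⟩
    have hcomm : g.residueFieldMap e ≫ q = g.residueFieldMap e := by
      have h1 : Spec.map (g.residueFieldMap e ≫ q) ≫ P.fromSpecResidueField (g e) =
          Spec.map (g.residueFieldMap e) ≫ P.fromSpecResidueField (g e) := by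
        rw [Spec.map_comp, Category.assoc, Scheme.Hom.SpecMap_residueFieldMap_fromSpecResidueField,
          ← Category.assoc, ← hq]
        simp only [y, Category.assoc, hover]
        rfl
      exact Spec.map_injective ((cancel_mono _).1 h1)
    refine ⟨⟨q.hom, fun r => ?_⟩, hq⟩
    exact RingHom.congr_fun (congrArg CommRingCat.Hom.hom hcomm) r
  choose φ hφ using hrep
  haveI : Finite (X.residueField e →ₐ[P.residueField (g e)] X.residueField e) := inferInstance
  obtain ⟨i, j, hij, heq⟩ := Finite.exists_ne_map_eq_of_infinite φ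
  wlog hlt : i < j generalizing i j
  · exact this j i (Ne.symm hij) heq.symm (by omega)
  have h1 : (ι ≫ act (n ^ i)) ≫ act (n ^ (j - i)) = ι ≫ act (n ^ i) := by
    rw [Category.assoc, hmul, ← pow_add, Nat.sub_add_cancel hlt.le, hφ, hφ, heq]
  exact hZ n (isOfFinOrder_iff_pow_eq_one.2 ⟨j - i, by omega,
    hfree _ (X.residueField e) _ h1⟩)

/-- Splitting of a torsor under a torsion free group whose components are open. -/
theorem exists_section' {Z : Type*} [Group Z] (hZ : ∀ z : Z, IsOfFinOrder z → z = 1) (g : X ⟶ P) [Etale g] [Surjective g]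
    (act : Z → (X ⟶ X)) (hmul : ∀ m n, act m ≫ act n = act (n * m)) (hone : act 1 = 𝟙 X)
    (hover : ∀ n, act n ≫ g = g)
    (hfree : ∀ (n : Z) (K : Type u) [Field K] (x : Spec (CommRingCat.of K) ⟶ X), x ≫ act n = x → n = 1)
    (htrans : ∀ (K : Type u) [Field K] (x y : Spec (CommRingCat.of K) ⟶ X), x ≫ g = y ≫ g → ∃ n, x ≫ act n = y)
    (mg : X → X) (hmg : ∀ z, mg z ⤳ z) (hmax : ∀ z w, w ⤳ mg z → w = mg z)
    (huniq : ∀ z a, a ⤳ z → (∀ w, w ⤳ a → w = a) → a = mg z)
    (hopen : ∀ z, IsOpen (closure ({mg z} : Set X))) :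
    ∃ σ : P ⟶ X, σ ≫ g = 𝟙 P := by
  classical
  have hinv : ∀ n (z : X), act n⁻¹ (act n z) = z := fun n z => by
    rw [← Scheme.Hom.comp_apply, hmul, inv_mul_cancel, hone]; rfl
  have hmgact : ∀ n z, mg (act n z) = act n (mg z) := fun n z => by
    refine (huniq _ _ ((hmg z).map (act n).continuous) fun w hw => ?_).symm
    have h1 : act n⁻¹ w ⤳ mg z := by
      have := hw.map (act n⁻¹).continuous
      rwa [hinv] at this
    have h2 := congrArg (act n) (hmax z _ h1)
    have := hinv n⁻¹ w
    rw [inv_inv] at this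
    rwa [this] at h2
  have hidem : ∀ z, mg (mg z) = mg z := fun z => (huniq _ _ (specializes_rfl) (hmax z)).symm
  let rel : Setoid X := ⟨fun a b => ∃ n, act n a = b,
    ⟨fun a => ⟨1, by rw [hone]; rfl⟩, fun {a b} h => by
      obtain ⟨n, rfl⟩ := h; exact ⟨n⁻¹, hinv n a⟩,
    fun {a b c} h h' => by
      obtain ⟨n, rfl⟩ := h; obtain ⟨m, rfl⟩ := h'
      exact ⟨m * n, by rw [← hmul, Scheme.Hom.comp_apply]⟩⟩⟩
  let r : X → X := fun a => (Quotient.mk rel a).out
  have hr : ∀ a, ∃ n, act n (r a) = a := fun a => Quotient.mk_out (s := rel) a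
  have hr' : ∀ a b, (∃ n, act n a = b) → r a = r b := fun a b h =>
    congrArg Quotient.out (Quotient.sound (s := rel) h)
  let U : X.Opens := ⟨{z | r (mg z) = mg z}, by
    rw [isOpen_iff_forall_mem_open]
    intro z hz
    refine ⟨closure {mg z}, fun y hy => ?_, hopen z, (hmg z).mem_closure⟩
    have : mg y = mg z := (huniq y _ (specializes_iff_mem_closure.2 hy) (hmax z)).symm
    show r (mg y) = mg y
    rw [this]; exact hz⟩
  let π := U.ι ≫ g
  haveI : Surjective π := ⟨fun p => by
    obtain ⟨z, rfl⟩ := g.surjective p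
    obtain ⟨n, hn⟩ := hr (mg z)
    have hz' : act n⁻¹ z ∈ U := by
      show r (mg (act n⁻¹ z)) = mg (act n⁻¹ z)
      have h2 : act n⁻¹ (mg z) = r (mg z) := by rw [← hinv n (r (mg z)), hn]
      rw [hmgact, h2]
      exact hr' _ _ ⟨n, hn⟩
    refine ⟨⟨_, hz'⟩, ?_⟩
    show g (act n⁻¹ z) = g z
    rw [← Scheme.Hom.comp_apply, hover]⟩
  have hmono : ∀ (K : Type u) [Field K] (x y : Spec (CommRingCat.of K) ⟶ U.toScheme), x ≫ π = y ≫ π → x = y := by
    intro K _ x y hxy
    obtain ⟨n, hn⟩ := htrans K (x ≫ U.ι) (y ≫ U.ι) (by simpa [π] using hxy)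
    rw [← cancel_mono U.ι]
    suffices n = 1 by rw [← hn, this, hone, Category.comp_id]
    let p : Spec (CommRingCat.of K) := IsLocalRing.closedPoint K
    have hx : r (mg (U.ι (x p))) = mg (U.ι (x p)) := (x p).2
    have hy : r (mg (U.ι (y p))) = mg (U.ι (y p)) := (y p).2
    have he : act n (mg (U.ι (x p))) = mg (U.ι (y p)) := by
      have hpt : act n (U.ι (x p)) = U.ι (y p) := congrArg (fun q => q p) hn
      rw [← hmgact, hpt]
    have hh : mg (U.ι (x p)) = mg (U.ι (y p)) := by rw [← hx, ← hy]; exact hr' _ _ ⟨n, he⟩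
    rw [← hh] at he
    exact eq_id_of_maximal_image hZ g act hmul hover hfree n _ he
  haveI : Surjective (pullback.diagonal π) := ⟨fun q => by
    let uq := (pullback π π).fromSpecResidueField q
    have h := hmono ((pullback π π).residueField q) (uq ≫ pullback.fst π π) (uq ≫ pullback.snd π π) (by
      rw [Category.assoc, Category.assoc, pullback.condition])
    have hu' : (uq ≫ pullback.fst π π) ≫ pullback.diagonal π = uq := by
      apply pullback.hom_ext
      · simp
      · simpa using h
    refine ⟨(uq ≫ pullback.fst π π) (IsLocalRing.closedPoint _), ?_⟩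
    rw [← Scheme.Hom.comp_apply, hu']
    exact (pullback π π).fromSpecResidueField_apply q _⟩
  haveI : IsIso (pullback.diagonal π) :=
    (isIso_iff_isOpenImmersion_and_surjective _).2 ⟨inferInstance, inferInstance⟩
  haveI : Mono π := (pullback.isIso_diagonal_iff π).1 inferInstance
  haveI : IsOpenImmersion π := IsOpenImmersion.of_flat_of_mono π
  haveI : IsIso π := (isIso_iff_isOpenImmersion_and_surjective π).2 ⟨inferInstance, inferInstance⟩
  exact ⟨inv π ≫ U.ι, by rw [Category.assoc]; exact IsIso.inv_hom_id π⟩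

end GrothLib.TorsorTriv19
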