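import Groth.Agent.Lib.TorsorTriv19.Components
import Groth.Agent.Lib.TorsorTriv19.Split
import Groth.Agent.Lib.Torsor21.RationalSection
import Groth.Agent.Lib.GrpExt19.ConstRigid
import Groth.Agent.Lib.HomScheme.Const
import Groth.Agent.Lib.EtBasicB.OverField
import Groth.Prelude.Def_ChGrp

/-!
# Torsors under torsion free constant groups over smooth schemes over a geometrically unibranch base
-/

set_option autoImplicit false
set_option backward.isDefEq.respectTransparency false
set_option linter.style.haveILetI false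

universe u

open CategoryTheory CategoryTheory.Limits MonoidalCategory CartesianMonoidalCategory AlgebraicGeometry
open scoped MonObj

namespace GrothLib.TorsorTriv19

variable {P : Scheme.{u}} {Z : Type u} [Group Z] {G : Over P} [GrpObj G] {X : Over P}

/-- Translation of a torsor by the point of index `n`. -/
noncomputable def rho (eG : G ≅ TwC.const P Z) (a : AlgGrp.Action G X) (n : Z) : X ⟶ X :=
  lift (toUnit X ≫ TwC.pt P Z n ≫ eG.inv) (𝟙 X) ≫ a.act

variable (eG : G ≅ TwC.const P Z) (a : AlgGrp.Action G X)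

theorem comp_rho {T : Over P} (x : T ⟶ X) (n : Z) :
    x ≫ rho eG a n = lift (toUnit T ≫ TwC.pt P Z n ≫ eG.inv) x ≫ a.act := by
  rw [rho, comp_lift_assoc, Category.comp_id, ← Category.assoc x, toUnit_unique (x ≫ toUnit X) (toUnit T)]

theorem rho_one (hG : TwC.IsConstGrp Z G eG) : rho eG a (1 : Z) = 𝟙 X := by
  rw [rho, GrpExt19.gp_one G eG hG, MonObj.comp_one, a.lift_one_act]

theorem rho_rho (hG : TwC.IsConstGrp Z G eG) (m n : Z) : rho eG a m ≫ rho eG a n = rho eG a (n * m) := by
  rw [comp_rho, rho, rho, ← AlgGrp.Action.lift_mul_act, ← MonObj.comp_mul, hG]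

theorem exists_section {S : Scheme.{u}} [IrreducibleSpace S]
    (hS : ∀ s : S, CAlg2.IsGeomUnibranch (S.presheaf.stalk s)) (hZ : ∀ z : Z, IsOfFinOrder z → z = 1)
    (f : P ⟶ S) [Smooth f] (hG : TwC.IsConstGrp Z G eG)
    (hX : NonAbH1.IsTorsorFor Scheme.fppfPrecoverage a) : ∃ σ : P ⟶ X.left, σ ≫ X.hom = 𝟙 P := by
  have hX' := Torsor21.isTorsorFor_fpqc hX
  haveI hetG : Etale G.hom := by
    haveI : Etale (TwC.const P Z).hom := HomScheme.etale_const P Z
    rw [← Over.w eG.hom]
    infer_instance
  haveI : Etale X.hom := Torsor21.property (P := @Etale.{u}) hX' inferInstance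
  haveI : Surjective X.hom := Torsor21.surjective_hom hX'
  haveI : Smooth (X.hom ≫ f) := inferInstance
  choose mg hmg hmax using fun z : X.left => Unibranch.exists_maximal_generization z
  have key : ∀ (K : Type u) [Field K] (x : Spec (CommRingCat.of K) ⟶ X.left) (n : Z),
      x ≫ (rho eG a n).left =
        (lift (toUnit (Over.mk (x ≫ X.hom)) ≫ TwC.pt P Z n ≫ eG.inv)
          (Over.homMk x : Over.mk (x ≫ X.hom) ⟶ X) ≫ a.act).left := fun K _ x n => by
    rw [← comp_rho]; rfl
  refine exists_section' hZ X.hom (fun n => (rho eG a n).left) (fun m n => ?_) ?_ (fun n => Over.w _) ?_ ?_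
    mg hmg hmax (fun z b hb hbm => eq_of_maximal_of_smooth (X.hom ≫ f) hS hb (hmg z) hbm (hmax z))
    (fun z => isOpen_closure_of_maximal (X.hom ≫ f) hS (hmax z))
  · rw [← Over.comp_left, rho_rho eG a hG]
  · show (rho eG a (1 : Z)).left = _
    rw [rho_one eG a hG]; rfl
  · intro n K _ x hx
    let T : Over P := Over.mk (x ≫ X.hom)
    let x' : T ⟶ X := Over.homMk x
    haveI : Subsingleton T.left := inferInstanceAs (Subsingleton (Spec (CommRingCat.of K)))
    haveI : Nonempty T.left := inferInstanceAs (Nonempty (Spec (CommRingCat.of K)))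
    have h1 : lift (toUnit T ≫ TwC.pt P Z n ≫ eG.inv) x' ≫ a.act = lift 1 x' ≫ a.act := by
      rw [a.lift_one_act]
      exact Over.OverMorphism.ext ((key K x n).symm.trans hx)
    have h2 := TorsorDesc.act_left_injective hX'.1 h1
    obtain ⟨m, -, hu⟩ := GrpExt19.existsUnique_index ((1 : T ⟶ G) ≫ eG.hom)
    rw [hu n (by rw [← h2]; simp), hu 1 (by rw [← MonObj.comp_one (toUnit T), ← GrpExt19.gp_one G eG hG]; simp)]
  · intro K _ x y hxy
    let T : Over P := Over.mk (x ≫ X.hom)
    let x' : T ⟶ X := Over.homMk x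
    let y' : T ⟶ X := Over.homMk y hxy.symm
    haveI : Subsingleton T.left := inferInstanceAs (Subsingleton (Spec (CommRingCat.of K)))
    haveI : Nonempty T.left := inferInstanceAs (Nonempty (Spec (CommRingCat.of K)))
    obtain ⟨g, hg⟩ := TorsorDesc.exists_act_eq hX'.1 y' x'
    obtain ⟨n, hn, -⟩ := GrpExt19.existsUnique_index (g ≫ eG.hom)
    have hg' : g = toUnit T ≫ TwC.pt P Z n ≫ eG.inv := by rw [← Category.assoc, ← hn]; simp
    refine ⟨n, ?_⟩
    rw [key K x n, ← hg', hg]
    rfl

end GrothLib.TorsorTriv19
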