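import Groth.Agent.Lib.TorsorTriv19.Restrict
import Groth.Agent.Lib.TorsorTriv19.Transport
import Groth.Agent.Lib.TorsorTriv19.Main
import Groth.Agent.Lib.GeomUnib5.Radicial
import Groth.Agent.Lib.Torsor21.Local

/-!
# Extensions by torsion free constant groups extend from the generic fibre
-/

set_option autoImplicit false
set_option backward.isDefEq.respectTransparency false
set_option linter.style.haveILetI false
set_option synthInstance.maxHeartbeats 400000

universe u

open CategoryTheory CategoryTheory.Limits MonoidalCategory CartesianMonoidalCategory AlgebraicGeometry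
open scoped MonObj

namespace GrothLib.TorsorTriv19

section Kernel

variable {K : Scheme.{u}} {A B C : Over K} [GrpObj A] [GrpObj B] [GrpObj C] {u : A ⟶ B} {v : B ⟶ C}

theorem existsUnique_kernel (hex : NonAbH1.IsExactSeq Scheme.fppfPrecoverage u v) {T : Over K} (x x' : T ⟶ B)
    (h : x ≫ v = x' ≫ v) : ∃! g : T ⟶ A, x' = x * (g ≫ u) := by
  obtain ⟨-, -, -, hsq, -⟩ := hex
  have key : ∀ g : T ⟶ A, lift x g ≫ (B ◁ u) ≫ μ[B] = x * (g ≫ u) := fun g => by
    rw [lift_whiskerLeft_assoc, ← Hom.mul_def]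
  obtain ⟨l, hl₁, hl₂⟩ : ∃ l : T ⟶ B ⊗ A, l ≫ fst B A = x ∧ l ≫ (B ◁ u) ≫ μ[B] = x' :=
    ⟨hsq.lift x x' h, hsq.lift_fst _ _ _, hsq.lift_snd _ _ _⟩
  have hl : l = lift x (l ≫ snd B A) := by
    apply CartesianMonoidalCategory.hom_ext <;> simp [hl₁]
  refine ⟨l ≫ snd B A, ?_, fun g hg => ?_⟩
  · show x' = x * ((l ≫ snd B A) ≫ u)
    rw [← key, ← hl, hl₂]
  · have : lift x g = l := hsq.hom_ext (by rw [lift_fst, hl₁]) (by rw [key, hl₂]; exact hg.symm)
    rw [← this, lift_snd]

theorem etale_surjective (hex : NonAbH1.IsExactSeq Scheme.fppfPrecoverage u v) [Etale A.hom] :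
    Etale v.left ∧ Surjective v.left := by
  haveI := hex.1
  haveI := hex.2.1
  obtain ⟨R, hR, hsec⟩ := hex.2.2.2.2
  obtain ⟨κ, U, g, hg, href⟩ := FpqcRep.exists_small_refinement (Scheme.fppfPrecoverage_le_fpqcPrecoverage _ hR)
  obtain ⟨hqc, hflat, hsurj⟩ := FpqcCov.quasiCompactCover_and_flat g hg
  have hsec' : ∀ j, ∃ σ : U j ⟶ B.left, σ ≫ v.left = g j := fun j => by
    obtain ⟨Z', f, k, hf, hk⟩ := href j
    obtain ⟨s, hs⟩ := hsec f hf
    exact ⟨k ≫ s, by rw [Category.assoc, show s ≫ v.left = f from hs, hk]⟩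
  choose σ hσ using hsec'
  constructor
  · refine FpqcCov.of_fpqc @Etale.{u} inferInstance v.left (PreZeroHypercover.mk κ U g) hflat fun j => ?_
    show Etale (pullback.snd v.left (g j))
    let V : Over K := Over.mk (g j ≫ C.hom)
    let φ' : V ⟶ C := Over.homMk (g j)
    let s' : V ⟶ B := Over.homMk (σ j) (by
      show σ j ≫ B.hom = g j ≫ C.hom
      rw [← hσ j, Category.assoc, Over.w v])
    have hs' : s' ≫ v = φ' := Over.OverMorphism.ext (hσ j)
    let top : V ⊗ A ⟶ B := (fst V A ≫ s') * (snd V A ≫ u)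
    have hw : top ≫ v = fst V A ≫ φ' := by
      rw [MonObj.mul_comp, Category.assoc, Category.assoc, hs', hex.2.2.1, MonObj.comp_one, _root_.mul_one]
    have hsq : IsPullback top (fst V A) v φ' := by
      refine IsPullback.of_isLimit (PullbackCone.IsLimit.mk hw
        (fun c => lift c.snd (existsUnique_kernel hex (c.snd ≫ s') c.fst (by
          rw [Category.assoc, hs', c.condition])).choose) (fun c => ?_) (fun c => lift_fst _ _)
        (fun c l hl₁ hl₂ => ?_))
      · simp only [top, MonObj.comp_mul, lift_fst_assoc, lift_snd_assoc]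
        exact (existsUnique_kernel hex (c.snd ≫ s') c.fst (by
          rw [Category.assoc, hs', c.condition])).choose_spec.1.symm
      · apply CartesianMonoidalCategory.hom_ext
        · rw [hl₂, lift_fst]
        · rw [lift_snd]
          refine (existsUnique_kernel hex (c.snd ≫ s') c.fst (by
            rw [Category.assoc, hs', c.condition])).choose_spec.2 _ ?_
          show c.fst = (c.snd ≫ s') * ((l ≫ snd V A) ≫ u)
          rw [← hl₁, ← hl₂, MonObj.comp_mul]
          simp only [Category.assoc]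
    have hL := hsq.map (Over.forget K)
    haveI : Etale (fst V A).left := inferInstanceAs (Etale (pullback.fst V.hom A.hom))
    have e : hL.isoPullback.hom ≫ pullback.snd v.left (g j) = (fst V A).left := hL.isoPullback_hom_snd
    rw [← MorphismProperty.cancel_left_of_respectsIso (P := @Etale.{u}) hL.isoPullback.hom]
    exact e ▸ inferInstance
  · refine ⟨fun y => ?_⟩
    obtain ⟨j, x, rfl⟩ := hsurj y
    exact ⟨σ j x, by rw [← Scheme.Hom.comp_apply, hσ]⟩

end Kernel

section Points

variable {K S : Scheme.{u}} (i : K ⟶ S) {Z : Type u} [Group Z] {G : Over S} [GrpObj G]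
  (eG : G ≅ TwC.const S Z)

omit [Group Z] [GrpObj G] in
theorem hom_ext_bc_unit {T : Over K} (a b : T ⟶ Red.bc i (𝟙_ (Over S))) : a = b := by
  apply Over.OverMorphism.ext
  apply pullback.hom_ext
  · have h : ∀ c : T ⟶ Red.bc i (𝟙_ (Over S)), c.left ≫ pullback.fst (𝟙_ (Over S)).hom i = T.hom ≫ i := fun c => by
      have e : pullback.fst (𝟙_ (Over S)).hom i = pullback.snd (𝟙_ (Over S)).hom i ≫ i := by
        rw [← pullback.condition]; exact (Category.comp_id _).symm
      rw [e, ← Category.assoc]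
      exact congrArg (· ≫ i) (Over.w c)
    exact (h a).trans (h b).symm
  · exact (Over.w a).trans (Over.w b).symm

/-- The map to the base change of the point. -/
noncomputable def toBcUnit (T : Over K) : T ⟶ Red.bc i (𝟙_ (Over S)) :=
  Over.homMk (pullback.lift (T.hom ≫ i) T.hom (Category.comp_id _)) (pullback.lift_snd _ _ _)

/-- The point of index `n` of the base change of a constant group. -/
noncomputable def gam (T : Over K) (n : Z) : T ⟶ Red.bc i G :=
  toBcUnit i T ≫ (Over.pullback i).map (TwC.pt S Z n ≫ eG.inv)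

theorem comp_gam {T T' : Over K} (f : T' ⟶ T) (n : Z) : f ≫ gam i eG T n = gam i eG T' n := by
  rw [gam, gam, ← Category.assoc, hom_ext_bc_unit i (f ≫ toBcUnit i T) (toBcUnit i T')]

theorem gam_mul (hG : TwC.IsConstGrp Z G eG) (T : Over K) (m n : Z) :
    gam i eG T m * gam i eG T n = gam i eG T (m * n) := by
  rw [gam, gam, gam, ← MonObj.comp_mul, ← Functor.map_mul, hG]

theorem gam_one (hG : TwC.IsConstGrp Z G eG) (T : Over K) : gam i eG T (1 : Z) = 1 := by
  rw [gam, GrpExt19.gp_one G eG hG, Functor.map_one, MonObj.comp_one]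

theorem existsUnique_gam {T : Over K} [Subsingleton T.left] [Nonempty T.left] (g : T ⟶ Red.bc i G) :
    ∃! n, g = gam i eG T n := by
  let T' : Over S := Over.mk (T.hom ≫ i)
  haveI : Subsingleton T'.left := inferInstanceAs (Subsingleton T.left)
  haveI : Nonempty T'.left := inferInstanceAs (Nonempty T.left)
  have hw : (g.left ≫ pullback.fst G.hom i) ≫ G.hom = T.hom ≫ i := by
    rw [Category.assoc, pullback.condition, ← Category.assoc]
    exact congrArg (· ≫ i) (Over.w g)
  let g' : T' ⟶ G := Over.homMk (g.left ≫ pullback.fst G.hom i) hw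
  obtain ⟨n, hn, hu⟩ := GrpExt19.existsUnique_index (g' ≫ eG.hom)
  have hgam : ∀ m, (gam i eG T m).left ≫ pullback.fst G.hom i = (toUnit T' ≫ TwC.pt S Z m ≫ eG.inv).left := by
    intro m
    simp only [gam, toBcUnit, Over.comp_left, Category.assoc]
    simp [T']
  refine ⟨n, ?_, fun m hm => hu m ?_⟩
  · apply Over.OverMorphism.ext
    apply pullback.hom_ext
    · rw [hgam]
      have h := congrArg (· ≫ eG.inv) hn
      simp only [Category.assoc, Iso.hom_inv_id, Category.comp_id] at h
      exact congrArg CommaMorphism.left h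
    · exact (Over.w g).trans (Over.w _).symm
  · have h : g' = toUnit T' ≫ TwC.pt S Z m ≫ eG.inv := by
      apply Over.OverMorphism.ext
      rw [← hgam, ← hm]
      rfl
    rw [h]; simp

end Points

theorem isGeomUnibranch_of_field (k : Type u) [Field k] : CAlg2.IsGeomUnibranch k :=
  GeomUnib5.isGeomUnibranch_of_radicial (RingHom.id k) (fun _ h => h.eq_zero) fun r => ⟨0, r, by simp⟩

theorem isGeomUnibranch_stalk_spec_field {k : CommRingCat.{u}} (hk : IsField k) (s : Spec k) :
    CAlg2.IsGeomUnibranch ((Spec k).presheaf.stalk s) := by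
  letI := hk.toField
  rw [GeomUnib.isGeomUnibranch_stalk_spec_iff]
  exact GrothLib.BrnchNhd.isGeomUnibranch_of_ringEquiv
    (IsLocalization.atUnits k s.asIdeal.primeCompl (S := Localization.AtPrime s.asIdeal)
      (fun x hx => isUnit_iff_ne_zero.2 fun h => hx (h ▸ s.asIdeal.zero_mem))).toRingEquiv
    (isGeomUnibranch_of_field k)

/-- Over a field an extension by a torsion free constant group of a smooth group has a normalised
section. -/
theorem exists_normalised_section {S : Scheme.{u}} {k : CommRingCat.{u}} (hk : IsField k) (i : Spec k ⟶ S)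
    {Z : Type u} [Group Z] (hZ : ∀ z : Z, IsOfFinOrder z → z = 1) {G : Over S} [GrpObj G] [Etale G.hom]
    (eG : G ≅ TwC.const S Z) (hG : TwC.IsConstGrp Z G eG) {E' P' : Over (Spec k)} [GrpObj E'] [GrpObj P']
    [Smooth P'.hom] {u' : Red.bc i G ⟶ E'} {v' : E' ⟶ P'}
    (hex : NonAbH1.IsExactSeq Scheme.fppfPrecoverage u' v') :
    ∃ s : P' ⟶ E', s ≫ v' = 𝟙 P' ∧ (1 : 𝟙_ (Over (Spec k)) ⟶ P') ≫ s = 1 := by
  haveI := hex.1
  haveI := hex.2.1
  letI := hk.toField
  haveI : IrreducibleSpace (Spec k) := inferInstance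
  haveI : Etale (Red.bc i G).hom := inferInstanceAs (Etale (pullback.snd G.hom i))
  obtain ⟨het, hsurj⟩ := etale_surjective hex
  haveI := het
  haveI := hsurj
  haveI : Smooth E'.hom := by rw [← Over.w v']; infer_instance
  have hS := fun s : Spec k => isGeomUnibranch_stalk_spec_field hk s
  let rho : Z → (E' ⟶ E') := fun n => 𝟙 E' * (gam i eG E' n ≫ u')
  have hrho : ∀ {T : Over (Spec k)} (x : T ⟶ E') (n : Z), x ≫ rho n = x * (gam i eG T n ≫ u') := fun x n => by
    simp only [rho, MonObj.comp_mul, Category.comp_id, ← Category.assoc, comp_gam]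
  have hrr : ∀ m n : Z, rho m ≫ rho n = rho (m * n) := fun m n => by
    rw [hrho]
    simp only [rho]
    rw [_root_.mul_assoc, ← MonObj.mul_comp, gam_mul i eG hG]
  have hr1 : rho 1 = 𝟙 E' := by
    simp only [rho]
    rw [gam_one i eG hG, MonObj.one_comp, _root_.mul_one]
  have hrv : ∀ n, rho n ≫ v' = v' := fun n => by
    simp only [rho]
    rw [MonObj.mul_comp, Category.id_comp, Category.assoc, hex.2.2.1, MonObj.comp_one, _root_.mul_one]
  choose mg hmg hmax using fun z : E'.left => Unibranch.exists_maximal_generization z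
  have key : ∀ (L : Type u) [Field L] (x : Spec (CommRingCat.of L) ⟶ E'.left) (n : Z),
      x ≫ (rho n⁻¹).left = ((Over.homMk x : Over.mk (x ≫ E'.hom) ⟶ E') *
        (gam i eG (Over.mk (x ≫ E'.hom)) n⁻¹ ≫ u')).left := fun L _ x n => by
    rw [← hrho]; rfl
  obtain ⟨σ, hσ⟩ : ∃ σ : P'.left ⟶ E'.left, σ ≫ v'.left = 𝟙 P'.left := by
    refine exists_section' hZ v'.left (fun n => (rho n⁻¹).left) (fun m n => ?_) ?_ (fun n => ?_) ?_ ?_
      mg hmg hmax (fun z b hb hbm => eq_of_maximal_of_smooth E'.hom hS hb (hmg z) hbm (hmax z))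
      (fun z => isOpen_closure_of_maximal E'.hom hS (hmax z))
    · rw [← Over.comp_left, hrr, ← mul_inv_rev]
    · show (rho (1 : Z)⁻¹).left = _
      rw [inv_one, hr1]; rfl
    · rw [← Over.comp_left, hrv]
    · intro n L _ x hx
      let T : Over (Spec k) := Over.mk (x ≫ E'.hom)
      let x' : T ⟶ E' := Over.homMk x
      haveI : Subsingleton T.left := inferInstanceAs (Subsingleton (Spec (CommRingCat.of L)))
      haveI : Nonempty T.left := inferInstanceAs (Nonempty (Spec (CommRingCat.of L)))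
      have h1 : x' = x' * (gam i eG T n⁻¹ ≫ u') := Over.OverMorphism.ext (hx.symm.trans (key L x n))
      have h0 : x' = x' * ((1 : T ⟶ Red.bc i G) ≫ u') := by rw [MonObj.one_comp, _root_.mul_one]
      have h2 : gam i eG T n⁻¹ = gam i eG T 1 :=
        (((existsUnique_kernel hex x' x' rfl).unique h1 h0)).trans (gam_one i eG hG T).symm
      exact inv_eq_one.1 ((existsUnique_gam i eG (gam i eG T n⁻¹)).unique rfl h2)
    · intro L _ x y hxy
      let T : Over (Spec k) := Over.mk (x ≫ E'.hom)
      let x' : T ⟶ E' := Over.homMk x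
      let y' : T ⟶ E' := Over.homMk y (by
        show y ≫ E'.hom = x ≫ E'.hom
        rw [← Over.w v', ← Category.assoc, ← hxy, Category.assoc])
      haveI : Subsingleton T.left := inferInstanceAs (Subsingleton (Spec (CommRingCat.of L)))
      haveI : Nonempty T.left := inferInstanceAs (Nonempty (Spec (CommRingCat.of L)))
      obtain ⟨g, hg, -⟩ := existsUnique_kernel hex x' y' (Over.OverMorphism.ext hxy)
      obtain ⟨n, hn, -⟩ := existsUnique_gam i eG g
      refine ⟨n⁻¹, ?_⟩
      rw [key L x n⁻¹, inv_inv, ← hn, ← hg]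
      rfl
  let s₀ : P' ⟶ E' := Over.homMk σ (by rw [← Over.w v', ← Category.assoc, hσ, Category.id_comp])
  have hs₀ : s₀ ≫ v' = 𝟙 P' := Over.OverMorphism.ext hσ
  refine ⟨s₀ * (toUnit P' ≫ (1 : 𝟙_ (Over (Spec k)) ⟶ P') ≫ s₀)⁻¹, ?_, ?_⟩
  · rw [MonObj.mul_comp, GrpObj.inv_comp, Category.assoc, Category.assoc, hs₀, Category.comp_id,
      MonObj.comp_one, inv_one, _root_.mul_one]
  · rw [MonObj.comp_mul, GrpObj.comp_inv, ← Category.assoc (1 : 𝟙_ (Over (Spec k)) ⟶ P') (toUnit P'),
      toUnit_unique ((1 : 𝟙_ (Over (Spec k)) ⟶ P') ≫ toUnit P') (𝟙 _), Category.id_comp, mul_inv_cancel]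

/-- Extensions of a smooth group by a torsion free constant group come from the whole base. -/
theorem exists_extension_of_generic {S : Scheme.{u}} [IrreducibleSpace S]
    (hS : ∀ s : S, CAlg2.IsGeomUnibranch (S.presheaf.stalk s)) (ξ : S) (hξ : IsGenericPoint ξ (Set.univ : Set S))
    {Z : Type u} [Group Z] (hZ : ∀ z : Z, IsOfFinOrder z → z = 1) {G P : Over S} [GrpObj G] [GrpObj P]
    (eG : G ≅ TwC.const S Z) (hG : TwC.IsConstGrp Z G eG) [Smooth P.hom]
    {E' : Over (Spec (S.residueField ξ))} [GrpObj E']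
    {u' : Red.bc (S.fromSpecResidueField ξ) G ⟶ E'} {v' : E' ⟶ Red.bc (S.fromSpecResidueField ξ) P}
    (hex : NonAbH1.IsExactSeq Scheme.fppfPrecoverage u' v') :
    ∃ (E : Over S) (_ : GrpObj E) (u : G ⟶ E) (v : E ⟶ P) (φ : Red.bc (S.fromSpecResidueField ξ) E ≅ E'),
      NonAbH1.IsExactSeq Scheme.fppfPrecoverage u v ∧ IsMonHom φ.hom ∧
        (Over.pullback (S.fromSpecResidueField ξ)).map u ≫ φ.hom = u' ∧
        φ.hom ≫ v' = (Over.pullback (S.fromSpecResidueField ξ)).map v := by
  haveI := hex.1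
  haveI := hex.2.1
  let i := S.fromSpecResidueField ξ
  let F := Over.pullback i
  haveI : Etale G.hom := by
    haveI : Etale (TwC.const S Z).hom := HomScheme.etale_const S Z
    haveI : IsIso eG.hom.left := inferInstanceAs (IsIso ((Over.forget S).map eG.hom))
    rw [← Over.w eG.hom]; infer_instance
  haveI : Smooth (Red.bc i P).hom := inferInstanceAs (Smooth (pullback.snd P.hom i))
  obtain ⟨s, hs, hs1⟩ := exists_normalised_section (Field.toIsField (S.residueField ξ)) i hZ eG hG hex
  haveI : Smooth (G ⊗ P).hom := smooth_tensor G P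
  haveI : IsIso (CartesianMonoidalCategory.prodComparison F G P) := inferInstance
  have hpc : CartesianMonoidalCategory.prodComparison F G P = lift (F.map (fst G P)) (F.map (snd G P)) := rfl
  let q : F.obj (G ⊗ P) ⟶ E' := (F.map (snd G P) ≫ s) * (F.map (fst G P) ≫ u')
  have hqv : q ≫ v' = F.map (snd G P) := by
    rw [MonObj.mul_comp, Category.assoc, Category.assoc, hs, hex.2.2.1, MonObj.comp_one, _root_.mul_one,
      Category.comp_id]
  obtain ⟨g, hg, hgu⟩ := existsUnique_kernel hex (v' ≫ s) (𝟙 E') (by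
    rw [Category.assoc, hs, Category.comp_id, Category.id_comp])
  let r : E' ⟶ F.obj (G ⊗ P) := lift g v' ≫ inv (CartesianMonoidalCategory.prodComparison F G P)
  have hr1 : r ≫ F.map (fst G P) = g := by
    simp only [r, Category.assoc]
    rw [show inv (CartesianMonoidalCategory.prodComparison F G P) ≫ F.map (fst G P) = fst _ _ by
      rw [IsIso.inv_comp_eq, hpc, lift_fst], lift_fst]
  have hr2 : r ≫ F.map (snd G P) = v' := by
    simp only [r, Category.assoc]
    rw [show inv (CartesianMonoidalCategory.prodComparison F G P) ≫ F.map (snd G P) = snd _ _ by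
      rw [IsIso.inv_comp_eq, hpc, lift_snd], lift_snd]
  have hrq : r ≫ q = 𝟙 E' := by
    simp only [q, MonObj.comp_mul, ← Category.assoc, hr1, hr2]
    exact hg.symm
  have hqr : q ≫ r = 𝟙 _ := by
    have hextF : ∀ {T : Over (Spec (S.residueField ξ))} (a b : T ⟶ F.obj (G ⊗ P)),
        a ≫ F.map (fst G P) = b ≫ F.map (fst G P) → a ≫ F.map (snd G P) = b ≫ F.map (snd G P) → a = b :=
      fun a b h₁ h₂ => (cancel_mono (CartesianMonoidalCategory.prodComparison F G P)).1 (by
        rw [hpc]; exact CartesianMonoidalCategory.hom_ext _ _ (by simpa using h₁) (by simpa using h₂))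
    refine hextF _ _ ?_ ?_
    · rw [Category.assoc, hr1, Category.id_comp]
      refine (existsUnique_kernel hex (q ≫ v' ≫ s) q (by
        rw [Category.assoc, Category.assoc, hs, Category.comp_id])).unique ?_ ?_
      · have := congrArg (q ≫ ·) hg
        simpa [MonObj.comp_mul] using this
      · rw [← Category.assoc q v' s, hqv]
    · rw [Category.assoc, hr2, hqv, Category.id_comp]
  let ψ : Red.bc i (G ⊗ P) ≅ E' := ⟨q, r, hqr, hrq⟩
  have hψu : F.map (lift (𝟙 G) (1 : G ⟶ P)) ≫ ψ.hom = u' := by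
    show F.map (lift (𝟙 G) (1 : G ⟶ P)) ≫ q = u'
    simp only [q, MonObj.comp_mul, ← Category.assoc, ← F.map_comp, lift_fst, lift_snd]
    rw [F.map_id, Category.id_comp, Functor.map_one,
      show (1 : F.obj G ⟶ F.obj P) = toUnit _ ≫ (1 : 𝟙_ (Over (Spec (S.residueField ξ))) ⟶ F.obj P) by
        rw [MonObj.comp_one],
      Category.assoc, hs1, MonObj.comp_one, _root_.one_mul]
  obtain ⟨inst, u, v, φ, h⟩ := exists_extension i (X := G ⊗ P) (fst G P) (snd G P)
    (fun T => ⟨fun a b e => CartesianMonoidalCategory.hom_ext _ _ (congrArg Prod.fst e) (congrArg Prod.snd e),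
      fun p => ⟨lift p.1 p.2, Prod.ext (lift_fst _ _) (lift_snd _ _)⟩⟩)
    (fun T a b h₁ h₂ => (cancel_mono (CartesianMonoidalCategory.prodComparison F G P)).1 (by
      rw [hpc]; exact CartesianMonoidalCategory.hom_ext _ _ (by simpa using h₁) (by simpa using h₂)))
    (fun T hT => haveI := hT; bijective_map hS ξ hξ eG T)
    hex.2.2.1 ψ hqv (lift (𝟙 G) (1 : G ⟶ P)) (lift_fst _ _) (lift_snd _ _) hψu
  exact ⟨G ⊗ P, inst, u, v, φ, h⟩

end GrothLib.TorsorTriv19
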