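import Groth.Agent.Lib.TorsorTriv19.Main
import Groth.Agent.Lib.SecComp6.Smooth
import Groth.Agent.Lib.GrpSchField.Field
import Mathlib.AlgebraicGeometry.Geometrically.Connected

/-!
# Torsors under constant groups trivial on the fibres of a smooth morphism with connected fibres
-/

set_option autoImplicit false
set_option backward.isDefEq.respectTransparency false
set_option linter.style.haveILetI false

universe u

open CategoryTheory CategoryTheory.Limits MonoidalCategory CartesianMonoidalCategory AlgebraicGeometry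
open scoped MonObj

namespace GrothLib.TorsorTriv19

variable {P : Scheme.{u}} {Z : Type u} [Group Z] {G : Over P} [GrpObj G] {X : Over P}
variable (eG : G ≅ TwC.const P Z) (a : AlgGrp.Action G X)

theorem etale_separated_torsor (hX : NonAbH1.IsTorsorFor Scheme.fppfPrecoverage a)
    (eG' : G ≅ TwC.const P Z) : Etale X.hom ∧ IsSeparated X.hom := by
  have hX' := Torsor21.isTorsorFor_fpqc hX
  haveI hetG : Etale G.hom := by
    haveI : Etale (TwC.const P Z).hom := HomScheme.etale_const P Z
    rw [← Over.w eG'.hom]; infer_instance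
  haveI : IsSeparated G.hom := by
    haveI : IsSeparated (TwC.const P Z).hom := HomScheme.isSeparated_const P Z
    rw [← Over.w eG'.hom]; infer_instance
  haveI := GrothLib.EtSite.descendsAlong_isSeparated.{u}
  exact ⟨Torsor21.property (P := @Etale.{u}) hX' inferInstance,
    Torsor21.property (P := @IsSeparated.{u}) hX' inferInstance⟩

theorem rho_left_comp (hG : TwC.IsConstGrp Z G eG) (m n : Z) :
    (rho eG a m).left ≫ (rho eG a n).left = (rho eG a (n * m)).left := by
  rw [← Over.comp_left, rho_rho eG a hG]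

theorem exists_index (hX : NonAbH1.IsTorsorFor Scheme.fppfPrecoverage a)
    {K : Type u} [Field K] (x y : Spec (CommRingCat.of K) ⟶ X.left) (hxy : x ≫ X.hom = y ≫ X.hom) :
    ∃ n, x ≫ (rho eG a n).left = y := by
  let T : Over P := Over.mk (x ≫ X.hom)
  let x' : T ⟶ X := Over.homMk x
  let y' : T ⟶ X := Over.homMk y hxy.symm
  haveI : Subsingleton T.left := inferInstanceAs (Subsingleton (Spec (CommRingCat.of K)))
  haveI : Nonempty T.left := inferInstanceAs (Nonempty (Spec (CommRingCat.of K)))
  obtain ⟨g, hg⟩ := TorsorDesc.exists_act_eq hX.1 y' x'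
  obtain ⟨n, hn, -⟩ := GrpExt19.existsUnique_index (g ≫ eG.hom)
  have hg' : g = toUnit T ≫ TwC.pt P Z n ≫ eG.inv := by rw [← Category.assoc, ← hn]; simp
  refine ⟨n, ?_⟩
  have h := congrArg CommaMorphism.left (comp_rho eG a x' n)
  rw [← hg', hg] at h
  exact h

theorem eq_one_of_fixed (hG : TwC.IsConstGrp Z G eG) (hX : NonAbH1.IsTorsorFor Scheme.fppfPrecoverage a)
    {K : Type u} [Field K] (x : Spec (CommRingCat.of K) ⟶ X.left) (n : Z)
    (hx : x ≫ (rho eG a n).left = x) : n = 1 := by
  let T : Over P := Over.mk (x ≫ X.hom)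
  let x' : T ⟶ X := Over.homMk x
  haveI : Subsingleton T.left := inferInstanceAs (Subsingleton (Spec (CommRingCat.of K)))
  haveI : Nonempty T.left := inferInstanceAs (Nonempty (Spec (CommRingCat.of K)))
  have h1 : lift (toUnit T ≫ TwC.pt P Z n ≫ eG.inv) x' ≫ a.act = lift 1 x' ≫ a.act := by
    rw [a.lift_one_act, ← comp_rho eG a x' n]
    exact Over.OverMorphism.ext hx
  have h2 := TorsorDesc.act_left_injective hX.1 h1
  obtain ⟨m, -, hu⟩ := GrpExt19.existsUnique_index ((1 : T ⟶ G) ≫ eG.hom)
  rw [hu n (by rw [← h2]; simp), hu 1 (by rw [← MonObj.comp_one (toUnit T), ← GrpExt19.gp_one G eG hG]; simp)]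

omit [Group Z] in
/-- Two field valued points with the same centre and the same image agree if the residue field does not
grow. -/
theorem hom_ext_of_surjective_residue {W V : Scheme.{u}} (g : W ⟶ V) (z : W)
    (hz : Function.Surjective (g.residueFieldMap z)) {K : Type u} [Field K]
    (x y : Spec (CommRingCat.of K) ⟶ W) (hx : ∀ p, x p = z) (hy : ∀ p, y p = z) (h : x ≫ g = y ≫ g) : x = y := by
  have key : ∀ w : Spec (CommRingCat.of K) ⟶ W, (∀ p, w p = z) →
      ∃ q : W.residueField z ⟶ CommRingCat.of K, w = Spec.map q ≫ W.fromSpecResidueField z := by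
    intro w hw
    obtain ⟨⟨z', q⟩, hq⟩ := (Scheme.SpecToEquivOfField K W).symm.surjective w
    have : z' = z := by
      rw [← hw (IsLocalRing.closedPoint K), ← hq]
      exact (W.fromSpecResidueField_apply z' _).symm
    subst this
    exact ⟨q, hq.symm⟩
  obtain ⟨q₁, rfl⟩ := key x hx
  obtain ⟨q₂, rfl⟩ := key y hy
  haveI : Epi (g.residueFieldMap z) := ConcreteCategory.epi_of_surjective _ hz
  have h' : g.residueFieldMap z ≫ q₁ = g.residueFieldMap z ≫ q₂ := by
    apply Spec.map_injective
    rw [← cancel_mono (V.fromSpecResidueField (g z)), Spec.map_comp, Spec.map_comp, Category.assoc,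
      Category.assoc, Scheme.Hom.SpecMap_residueFieldMap_fromSpecResidueField, ← Category.assoc, ← Category.assoc, h]
  rw [(cancel_epi _).1 h']

theorem surjective_residueFieldMap_of_comp {A B C : Scheme.{u}} (u' : A ⟶ B) (g : B ⟶ C) (j : A ⟶ C)
    (h : u' ≫ g = j) [IsPreimmersion j] (q : A) : Function.Surjective (g.residueFieldMap (u' q)) := by
  subst h
  have h1 : Function.Surjective ((u' ≫ g).residueFieldMap q) := fun t => by
    obtain ⟨r, rfl⟩ := Scheme.residue_surjective _ q t
    obtain ⟨r', rfl⟩ := Scheme.Hom.stalkMap_surjective (u' ≫ g) q r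
    exact ⟨C.residue _ r', congrArg (fun φ => φ.hom r') (Scheme.residue_residueFieldMap (u' ≫ g) q)⟩
  rw [Scheme.residueFieldMap_comp] at h1
  intro t
  obtain ⟨v, hv⟩ := h1 (u'.residueFieldMap q t)
  exact ⟨v, (u'.residueFieldMap q).hom.injective hv⟩

section Fibrewise

variable {S : Scheme.{u}} (p : P ⟶ S) [GeometricallyConnected p]

/-- Over a point whose fibre carries a section, the connected component of a point in the fibre of the
torsor is the image of a translate of the section, and maps injectively. -/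
theorem fibre_component (hG : TwC.IsConstGrp Z G eG) (hX : NonAbH1.IsTorsorFor Scheme.fppfPrecoverage a)
    (s : S) (σs : pullback p (S.fromSpecResidueField s) ⟶ X.left)
    (hσs : σs ≫ X.hom = pullback.fst p (S.fromSpecResidueField s)) (z₀ : X.left) (hz₀ : (X.hom ≫ p) z₀ = s) :
    (∀ q : P, p q = s → ∃ z, z ∈ connectedComponentIn ((X.hom ≫ p) ⁻¹' {s}) z₀ ∧ X.hom z = q) ∧
    (∀ (K : Type u) [Field K] (x y : Spec (CommRingCat.of K) ⟶ X.left), x ≫ X.hom = y ≫ X.hom →
      (∀ t, x t ∈ connectedComponentIn ((X.hom ≫ p) ⁻¹' {s}) z₀) →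
      (∀ t, y t ∈ connectedComponentIn ((X.hom ≫ p) ⁻¹' {s}) z₀) → x = y) := by
  haveI : Etale X.hom := (etale_separated_torsor a hX eG).1
  let f := X.hom ≫ p
  let i := S.fromSpecResidueField s
  let j := pullback.fst p i
  let F : Set X.left := f ⁻¹' {s}
  haveI : ConnectedSpace (pullback p i : Scheme.{u}) := inferInstanceAs (ConnectedSpace (p.fiber s))
  let σn : Z → (pullback p i ⟶ X.left) := fun n => σs ≫ (rho eG a n).left
  have hσn : ∀ n, σn n ≫ X.hom = j := fun n => by
    simp only [σn, Category.assoc]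
    rw [Over.w (rho eG a n)]
    exact hσs
  let C : Z → Set X.left := fun n => Set.range (σn n)
  have hCF : ∀ n, C n ⊆ F := by
    rintro n _ ⟨q, rfl⟩
    show (X.hom ≫ p) (σn n q) = s
    rw [← Scheme.Hom.comp_apply, ← Category.assoc, hσn, pullback.condition, Scheme.Hom.comp_apply]
    exact S.fromSpecResidueField_apply s _
  have hcover : ∀ z ∈ F, ∃ n, z ∈ C n := by
    intro z hz
    let x := X.left.fromSpecResidueField z
    obtain ⟨c, hc⟩ : ∃ c : Spec (X.left.residueField z) ⟶ Spec (S.residueField s), c ≫ i = x ≫ X.hom ≫ p := by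
      have hz' : f z = s := hz
      subst hz'
      exact ⟨Spec.map (f.residueFieldMap z), f.SpecMap_residueFieldMap_fromSpecResidueField z⟩
    let l : Spec (X.left.residueField z) ⟶ pullback p i := pullback.lift (x ≫ X.hom) c (by rw [hc, Category.assoc])
    obtain ⟨n, hn⟩ := exists_index eG a hX (l ≫ σs) x (by rw [Category.assoc, hσs]; exact pullback.lift_fst _ _ _)
    refine ⟨n, l (IsLocalRing.closedPoint _), ?_⟩
    show (σs ≫ (rho eG a n).left) (l _) = z
    rw [← Scheme.Hom.comp_apply, ← Category.assoc, hn]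
    exact X.left.fromSpecResidueField_apply z _
  have hres : ∀ (n : Z) q, Function.Surjective (X.hom.residueFieldMap (σn n q)) := fun n q =>
    surjective_residueFieldMap_of_comp (σn n) X.hom j (hσn n) q
  have hpt : ∀ (m n : Z), (C m ∩ C n).Nonempty → m = n := by
    rintro m n ⟨_, ⟨q, rfl⟩, ⟨q', hq'⟩⟩
    have hqq : q' = q := j.isEmbedding.injective (by
      rw [← hσn n, Scheme.Hom.comp_apply, hq', ← Scheme.Hom.comp_apply, hσn m, hσn n])
    subst hqq
    let w := (pullback p i).fromSpecResidueField q'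
    have hmn : w ≫ σn m = w ≫ σn n :=
      hom_ext_of_surjective_residue X.hom (σn m q') (hres m q') _ _
        (fun t => congrArg (σn m) ((pullback p i).fromSpecResidueField_apply q' t))
        (fun t => (congrArg (σn n) ((pullback p i).fromSpecResidueField_apply q' t)).trans hq')
        ((congrArg (w ≫ ·) ((hσn m).trans (hσn n).symm)).trans (Category.assoc _ _ _).symm |> (Category.assoc _ _ _).trans)
    have := eq_one_of_fixed eG a hG hX (w ≫ σn m) (n * m⁻¹) (by
      conv_rhs => rw [hmn]
      simp only [σn, Category.assoc]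
      rw [rho_left_comp eG a hG, inv_mul_cancel_right])
    rw [mul_inv_eq_one] at this
    exact this.symm
  have hopen : ∀ n, IsOpen (Subtype.val ⁻¹' C n : Set F) := by
    intro n
    let lf : pullback p i ⟶ pullback f i := pullback.lift (σn n) (pullback.snd p i) (by
      rw [← Category.assoc, hσn]; exact pullback.condition)
    let π : pullback f i ⟶ pullback p i := pullback.map f i p i X.hom (𝟙 _) (𝟙 _) (by simp [f]) (by simp)
    have hπ : IsPullback π (pullback.fst f i) (pullback.fst p i) X.hom :=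
      IsPullback.of_right (h₁₂ := pullback.snd p i) (h₂₂ := p) (v₁₃ := i)
        (by rw [show π ≫ pullback.snd p i = pullback.snd f i by simp [π]]
            exact (IsPullback.of_hasPullback f i).flip)
        (by simp [π]) (IsPullback.of_hasPullback p i).flip
    haveI : Etale π := MorphismProperty.of_isPullback hπ.flip (inferInstance : Etale X.hom)
    haveI : Etale (lf ≫ π) := by
      rw [show lf ≫ π = 𝟙 _ by apply pullback.hom_ext <;> simp [lf, π, hσn, j]]
      infer_instance
    haveI : Etale lf := Etale.of_comp lf π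
    have ho : IsOpen (Set.range lf) := lf.isOpenMap.isOpen_range
    have heq : (Subtype.val ⁻¹' C n : Set F) = (f.fiberHomeo s) '' Set.range lf := by
      rw [← Set.range_comp]
      ext z
      constructor
      · rintro ⟨q, hq⟩
        refine ⟨q, Subtype.ext ?_⟩
        rw [← hq]
        show ((f.fiberHomeo s) (lf q)).1 = σn n q
        rw [Scheme.Hom.fiberHomeo_apply]
        show (lf ≫ pullback.fst f i) q = _
        rw [pullback.lift_fst]
      · rintro ⟨q, rfl⟩
        refine ⟨q, ?_⟩
        show σn n q = ((f.fiberHomeo s) (lf q)).1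
        rw [Scheme.Hom.fiberHomeo_apply]
        show _ = (lf ≫ pullback.fst f i) q
        rw [pullback.lift_fst]
    rw [heq]
    exact (f.fiberHomeo s).isOpenMap _ ho
  obtain ⟨n₀, hn₀⟩ := hcover z₀ hz₀
  have hpre : _root_.IsPreconnected (C n₀) := isPreconnected_range (σn n₀).continuous
  have hcomp : connectedComponentIn F z₀ = C n₀ := by
    refine subset_antisymm (fun z hz => ?_) (hpre.subset_connectedComponentIn hn₀ (hCF n₀))
    haveI : PreconnectedSpace (connectedComponentIn F z₀) :=
      Subtype.preconnectedSpace isPreconnected_connectedComponentIn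
    let inc : connectedComponentIn F z₀ → F := Set.inclusion (connectedComponentIn_subset F z₀)
    have hclosed : IsClosed (Subtype.val ⁻¹' C n₀ : Set F) := by
      refine isOpen_compl_iff.1 (isOpen_iff_forall_mem_open.2 fun w hw => ?_)
      obtain ⟨m, hm⟩ := hcover w w.2
      exact ⟨_, fun v hv hv' => hw (hpt m n₀ ⟨v, hv, hv'⟩ ▸ hm), hopen m, hm⟩
    have h1 : IsClopen (inc ⁻¹' (Subtype.val ⁻¹' C n₀)) :=
      IsClopen.preimage (⟨hclosed, hopen n₀⟩ : IsClopen (Subtype.val ⁻¹' C n₀ : Set F)) (continuous_inclusion _)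
    have h2 := h1.eq_univ ⟨⟨z₀, mem_connectedComponentIn hz₀⟩, hn₀⟩
    exact (h2.symm ▸ Set.mem_univ (⟨z, hz⟩ : connectedComponentIn F z₀) :
      (⟨z, hz⟩ : connectedComponentIn F z₀) ∈ inc ⁻¹' (Subtype.val ⁻¹' C n₀))
  refine ⟨fun q hq => ?_, fun K _ x y hxy hx hy => ?_⟩
  · obtain ⟨q', rfl⟩ : q ∈ Set.range j := by
      rw [Scheme.Pullback.range_fst]
      exact ⟨IsLocalRing.closedPoint _, (S.fromSpecResidueField_apply s _).trans hq.symm⟩
    refine ⟨σn n₀ q', hcomp ▸ ⟨q', rfl⟩, ?_⟩
    rw [← Scheme.Hom.comp_apply, hσn]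
  · let t₀ : Spec (CommRingCat.of K) := IsLocalRing.closedPoint K
    obtain ⟨q, hq⟩ : x t₀ ∈ C n₀ := hcomp ▸ hx t₀
    obtain ⟨q', hq'⟩ : y t₀ ∈ C n₀ := hcomp ▸ hy t₀
    have hqq : q = q' := j.isEmbedding.injective (by
      rw [← hσn n₀]
      exact ((congrArg X.hom hq).trans ((congrArg (fun φ => φ t₀) hxy).trans (congrArg X.hom hq').symm)))
    refine hom_ext_of_surjective_residue X.hom _ (hres n₀ q) x y (fun t => ?_) (fun t => ?_) hxy
    · rw [hq, Subsingleton.elim t t₀]
    · rw [hqq, hq', Subsingleton.elim t t₀]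

end Fibrewise

/-- The components through a section of a smooth quasi-separated morphism form an open set. -/
theorem isOpen_sectionComponents {S W : Scheme.{u}} (f : W ⟶ S) [Smooth f] [QuasiSeparated f] (e : S ⟶ W)
    (he : e ≫ f = 𝟙 S) : IsOpen (MoreMor.sectionComponents f e) := by
  rw [isOpen_iff_forall_mem_open]
  intro z hz
  obtain ⟨S₀, hS₀, hzS, -⟩ := exists_isAffineOpen_mem_and_subset (U := (⊤ : S.Opens)) (x := f z) trivial
  haveI : IsAffine (S₀ : Scheme.{u}) := hS₀
  let f₀ := f ∣_ S₀
  haveI : QuasiSeparatedSpace (f ⁻¹ᵁ S₀ : Scheme.{u}) := quasiSeparatedSpace_of_quasiSeparated f₀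
  let j := (f ⁻¹ᵁ S₀).ι
  have hef : ∀ t, f (e t) = t := fun t => by rw [← Scheme.Hom.comp_apply, he]; rfl
  let e₀ : (S₀ : Scheme.{u}) ⟶ (f ⁻¹ᵁ S₀ : Scheme.{u}) := IsOpenImmersion.lift j (S₀.ι ≫ e) (by
    rw [Scheme.Opens.range_ι]
    rintro _ ⟨t, rfl⟩
    show f (e (S₀.ι t)) ∈ S₀
    rw [hef]; exact t.2)
  have he₀ : e₀ ≫ f₀ = 𝟙 _ := by
    rw [← cancel_mono S₀.ι, Category.assoc, morphismRestrict_ι, ← Category.assoc, IsOpenImmersion.lift_fac,
      Category.assoc, he, Category.comp_id, Category.id_comp]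
  have hj : ∀ w, f (j w) = S₀.ι (f₀ w) := fun w => by
    rw [← Scheme.Hom.comp_apply, ← Scheme.Hom.comp_apply, morphismRestrict_ι]
  have hje : ∀ t, j (e₀ t) = e (S₀.ι t) := fun t => by
    rw [← Scheme.Hom.comp_apply, IsOpenImmersion.lift_fac]; rfl
  refine ⟨j '' MoreMor.sectionComponents f₀ e₀, ?_,
    j.isOpenEmbedding.isOpenMap _ (GrothLib.SecComp6.isOpen_sectionComponents_smooth f₀ e₀ he₀), ?_⟩
  · rintro _ ⟨w, hw, rfl⟩
    show j w ∈ connectedComponentIn (f ⁻¹' {f (j w)}) (e (f (j w)))
    refine IsPreconnected.subset_connectedComponentIn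
      (isPreconnected_connectedComponentIn.image j j.continuous.continuousOn) ?_ ?_ ⟨w, hw, rfl⟩
    · refine ⟨e₀ (f₀ w), mem_connectedComponentIn ?_, by rw [hje, hj]⟩
      show f₀ (e₀ (f₀ w)) = f₀ w
      rw [← Scheme.Hom.comp_apply e₀, he₀]; rfl
    · rintro _ ⟨v, hv, rfl⟩
      show f (j v) = f (j w)
      rw [hj, hj, show f₀ v = f₀ w from connectedComponentIn_subset (f₀ ⁻¹' {f₀ w}) _ hv]
  · have hzmem : z ∈ f ⁻¹ᵁ S₀ := hzS
    refine ⟨⟨z, hzmem⟩, ?_, rfl⟩
    let w : (f ⁻¹ᵁ S₀ : Scheme.{u}) := ⟨z, hzmem⟩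
    show w ∈ connectedComponentIn (f₀ ⁻¹' {f₀ w}) (e₀ (f₀ w))
    let T := connectedComponentIn (f ⁻¹' {f z}) (e (f z))
    have hT : T ⊆ Set.range j := fun v hv => by
      rw [Scheme.Opens.range_ι]
      show f v ∈ S₀
      rw [show f v = f z from connectedComponentIn_subset (f ⁻¹' {f z}) _ hv]; exact hzS
    have hpre : _root_.IsPreconnected (j ⁻¹' T) := by
      rw [← j.isOpenEmbedding.isInducing.isPreconnected_image, Set.image_preimage_eq_of_subset hT]
      exact isPreconnected_connectedComponentIn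
    refine hpre.subset_connectedComponentIn ?_ (fun v hv => S₀.ι.isOpenEmbedding.injective ?_) hz
    · show j (e₀ (f₀ w)) ∈ T
      rw [hje, ← hj]
      exact mem_connectedComponentIn (by show f (e (f z)) = f z; rw [hef])
    · rw [← hj, ← hj]
      exact connectedComponentIn_subset (f ⁻¹' {f z}) _ (hv : j v ∈ T)

/-- A torsor under a constant group over a smooth scheme with connected fibres is trivial if it is so on
the fibres, and then it has exactly one section through a given point over the section. -/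
theorem existsUnique_section {S : Scheme.{u}} (p : P ⟶ S) [Smooth p] [QuasiSeparated p] [GeometricallyConnected p]
    (hG : TwC.IsConstGrp Z G eG) (hX : NonAbH1.IsTorsorFor Scheme.fppfPrecoverage a)
    (e : S ⟶ P) (he : e ≫ p = 𝟙 S) (e' : S ⟶ X.left) (he' : e' ≫ X.hom = e)
    (hfib : ∀ s : S, NonAbH1.HasSectionOver X (pullback.fst p (S.fromSpecResidueField s))) :
    ∃! g : P ⟶ X.left, g ≫ X.hom = 𝟙 P ∧ e ≫ g = e' := by
  haveI : Etale X.hom := (etale_separated_torsor a hX eG).1
  haveI : IsSeparated X.hom := (etale_separated_torsor a hX eG).2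
  let f := X.hom ≫ p
  haveI : Smooth f := inferInstance
  haveI : QuasiSeparated f := inferInstance
  have hef : e' ≫ f = 𝟙 S := by rw [← Category.assoc, he', he]
  have hef' : ∀ t, f (e' t) = t := fun t => by rw [← Scheme.Hom.comp_apply, hef]; rfl
  let U : X.left.Opens := ⟨MoreMor.sectionComponents f e', isOpen_sectionComponents f e' hef⟩
  let π := U.ι ≫ X.hom
  choose σs hσs using hfib
  have key := fun s => fibre_component eG a p hG hX s (σs s) (hσs s) (e' s) (hef' s)
  haveI : Surjective π := ⟨fun q => by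
    obtain ⟨z, hz, hzq⟩ := (key (p q)).1 q rfl
    have hfz : f z = p q := by rw [← hzq]; rfl
    exact ⟨⟨z, show z ∈ connectedComponentIn (f ⁻¹' {f z}) (e' (f z)) by rw [hfz]; exact hz⟩, hzq⟩⟩
  haveI : Surjective (pullback.diagonal π) := ⟨fun q => by
    let uq := (pullback π π).fromSpecResidueField q
    let x := (uq ≫ pullback.fst π π) ≫ U.ι
    let y := (uq ≫ pullback.snd π π) ≫ U.ι
    let t₀ : Spec ((pullback π π).residueField q) := IsLocalRing.closedPoint _
    have hxy : x ≫ X.hom = y ≫ X.hom := by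
      simp only [x, y, Category.assoc]
      exact congrArg (uq ≫ ·) (pullback.condition (f := π) (g := π))
    have hfxy : f (y t₀) = f (x t₀) :=
      congrArg p ((congrArg (fun φ => φ t₀) hxy).symm : X.hom (y t₀) = X.hom (x t₀))
    have hmem : ∀ t, x t ∈ connectedComponentIn (f ⁻¹' {f (x t₀)}) (e' (f (x t₀))) ∧
        y t ∈ connectedComponentIn (f ⁻¹' {f (x t₀)}) (e' (f (x t₀))) := fun t => by
      rw [Subsingleton.elim t t₀]
      exact ⟨((uq ≫ pullback.fst π π) t₀).2, hfxy ▸ ((uq ≫ pullback.snd π π) t₀).2⟩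
    have h : uq ≫ pullback.fst π π = uq ≫ pullback.snd π π := (cancel_mono U.ι).1
      ((key (f (x t₀))).2 _ x y hxy (fun t => (hmem t).1) (fun t => (hmem t).2))
    have hu' : (uq ≫ pullback.fst π π) ≫ pullback.diagonal π = uq := by
      apply pullback.hom_ext
      · simp
      · simpa using h
    refine ⟨(uq ≫ pullback.fst π π) (IsLocalRing.closedPoint _), ?_⟩
    rw [← Scheme.Hom.comp_apply, hu']
    exact (pullback π π).fromSpecResidueField_apply q _⟩
  haveI : IsIso (pullback.diagonal π) :=
    (isIso_iff_isOpenImmersion_and_surjective _).2 ⟨inferInstance, inferInstance⟩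
  haveI : Mono π := (pullback.isIso_diagonal_iff π).1 inferInstance
  haveI : IsOpenImmersion π := IsOpenImmersion.of_flat_of_mono π
  haveI : IsIso π := (isIso_iff_isOpenImmersion_and_surjective π).2 ⟨inferInstance, inferInstance⟩
  let le' : S ⟶ U.toScheme := IsOpenImmersion.lift U.ι e' (by
    rw [Scheme.Opens.range_ι]
    rintro _ ⟨t, rfl⟩
    show e' t ∈ connectedComponentIn (f ⁻¹' {f (e' t)}) (e' (f (e' t)))
    rw [hef']
    exact mem_connectedComponentIn (hef' t))
  have hle' : le' ≫ π = e := by rw [← Category.assoc, IsOpenImmersion.lift_fac, he']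
  have hσ : inv π ≫ U.ι ≫ X.hom = 𝟙 P := IsIso.inv_hom_id π
  refine ⟨inv π ≫ U.ι, ⟨by rw [Category.assoc]; exact hσ, ?_⟩, ?_⟩
  · rw [← hle', Category.assoc, IsIso.hom_inv_id_assoc]
    exact IsOpenImmersion.lift_fac _ _ _
  rintro g ⟨hg, heg⟩
  have hgU : Set.range g ⊆ Set.range U.ι := by
    rw [Scheme.Opens.range_ι]
    rintro _ ⟨q, rfl⟩
    have hfq : f (g q) = p q := by
      rw [← Scheme.Hom.comp_apply, ← Category.assoc, hg, Category.id_comp]
    show g q ∈ connectedComponentIn (f ⁻¹' {f (g q)}) (e' (f (g q)))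
    rw [hfq]
    let i := S.fromSpecResidueField (p q)
    let j := pullback.fst p i
    haveI : ConnectedSpace (pullback p i : Scheme.{u}) := inferInstanceAs (ConnectedSpace (p.fiber (p q)))
    have hrange : Set.range j = p ⁻¹' {p q} := p.range_fiberι (p q)
    have hpe : p (e (p q)) = p q := by rw [← Scheme.Hom.comp_apply, he]; rfl
    have hpre : _root_.IsPreconnected (g '' Set.range j) :=
      (isPreconnected_range j.continuous).image g g.continuous.continuousOn
    refine hpre.subset_connectedComponentIn ?_ ?_ ⟨q, by rw [hrange]; rfl, rfl⟩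
    · refine ⟨e (p q), by rw [hrange]; exact hpe, ?_⟩
      rw [← Scheme.Hom.comp_apply, heg]
    · rintro _ ⟨v, hv, rfl⟩
      rw [hrange] at hv
      show f (g v) = p q
      rw [← Scheme.Hom.comp_apply, ← Category.assoc, hg, Category.id_comp]
      exact hv
  rw [← IsOpenImmersion.lift_fac U.ι g hgU]
  congr 1
  rw [← cancel_mono π, IsIso.inv_hom_id, ← Category.assoc, IsOpenImmersion.lift_fac, hg]

end GrothLib.TorsorTriv19
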