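import Groth.Agent.Lib.EtLocal.HenselPart
import Groth.Agent.Lib.EtBasicB.OverField
import Mathlib.AlgebraicGeometry.ValuativeCriterion
import Mathlib.AlgebraicGeometry.Stalk

/-!
# Étale separated schemes over henselian local rings at points of the closed fibre
-/

set_option autoImplicit false
set_option backward.isDefEq.respectTransparency false
set_option linter.style.haveILetI false

universe u

open CategoryTheory CategoryTheory.Limits AlgebraicGeometry IsLocalRing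

namespace GrothLib.TorsorTriv19

theorem fromSpecStalk_of_affine {X : Scheme.{u}} {W : X.Opens} (hW : IsAffineOpen W) {x : X} (hxW : x ∈ W)
    (hgen : ∀ y ∈ W, y ⤳ x) :
    IsOpenImmersion (X.fromSpecStalk x) ∧ Set.range (X.fromSpecStalk x) = W ∧
      ∃ e : Spec (X.presheaf.stalk x) ⟶ W.toScheme, IsIso e ∧ e ≫ W.ι = X.fromSpecStalk x := by
  let p := hW.primeIdealOf ⟨x, hxW⟩
  letI : Algebra Γ(X, W) (X.presheaf.stalk x) := (X.presheaf.germ W x hxW).hom.toAlgebra
  haveI hloc : IsLocalization.AtPrime (X.presheaf.stalk x) p.asIdeal := hW.isLocalization_stalk ⟨x, hxW⟩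
  have hunit : ∀ a ∈ p.asIdeal.primeCompl, IsUnit a := fun a ha => by
    by_contra h
    obtain ⟨q, hq, haq⟩ := exists_max_ideal_of_mem_nonunits h
    haveI := hq.isPrime
    let qq : PrimeSpectrum Γ(X, W) := ⟨q, inferInstance⟩
    have h1 : hW.fromSpec qq ⤳ x := hgen _ (hW.range_fromSpec.subset ⟨qq, rfl⟩)
    replace h1 : hW.fromSpec qq ⤳ hW.fromSpec p := h1.trans (specializes_of_eq (hW.fromSpec_primeIdealOf ⟨x, hxW⟩).symm)
    have h2 : qq ≤ p := (PrimeSpectrum.le_iff_specializes _ _).2 (hW.fromSpec.isOpenEmbedding.isInducing.specializes_iff.1 h1)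
    exact ha (h2 haq)
  haveI : IsIso (X.presheaf.germ W x hxW) :=
    (ConcreteCategory.isIso_iff_bijective _).2
      (IsLocalization.atUnits Γ(X, W) p.asIdeal.primeCompl (S := X.presheaf.stalk x) hunit).bijective
  have hfac : X.fromSpecStalk x = Spec.map (X.presheaf.germ W x hxW) ≫ hW.fromSpec :=
    (hW.fromSpecStalk_eq_fromSpecStalk hxW).symm
  refine ⟨by rw [hfac]; infer_instance, ?_, Spec.map (X.presheaf.germ W x hxW) ≫ hW.isoSpec.inv, inferInstance,
    by rw [hfac, Category.assoc, hW.isoSpec_inv_ι]⟩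
  rw [hfac, Scheme.Hom.comp_base, TopCat.coe_comp, Set.range_comp,
    (Spec.map (X.presheaf.germ W x hxW)).surjective.range_eq, Set.image_univ, hW.range_fromSpec]

variable {R : Type u} [CommRing R] [HenselianLocalRing R] {X : Scheme.{u}}
  (f : X ⟶ Spec (CommRingCat.of R)) [Etale f] [IsSeparated f]

theorem local_piece (x : X) (hx : f x = closedPoint R) :
    IsOpenImmersion (X.fromSpecStalk x) ∧ IsClosedImmersion (X.fromSpecStalk x) ∧
      IsFinite (X.fromSpecStalk x ≫ f) ∧ Etale (X.fromSpecStalk x ≫ f) ∧ Surjective (X.fromSpecStalk x ≫ f) ∧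
      ∀ x', x' ∈ Set.range (X.fromSpecStalk x) → f x' = closedPoint R → x' = x := by
  haveI : LocallyQuasiFinite f := GrothLib.EtBasicB.locallyQuasiFinite_of_unramified f
  haveI : DiscreteTopology (f ⁻¹' {closedPoint R}) :=
    isDiscrete_iff_discreteTopology.1 (f.isDiscrete_preimage_singleton _)
  obtain ⟨O, hO, hOe⟩ := isOpen_induced_iff.1 (isOpen_discrete ({⟨x, hx⟩} : Set (f ⁻¹' {closedPoint R})))
  have hxO : x ∈ O := (Set.ext_iff.1 hOe ⟨x, hx⟩).2 rfl
  have hOu : ∀ y ∈ O, f y = closedPoint R → y = x := fun y hy hfy =>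
    congrArg Subtype.val ((Set.ext_iff.1 hOe ⟨y, hfy⟩).1 hy)
  obtain ⟨N, hN, hxN, hNO⟩ := exists_isAffineOpen_mem_and_subset (U := (⟨O, hO⟩ : X.Opens)) (x := x) hxO
  haveI : IsAffine (N : Scheme.{u}) := hN
  haveI : QuasiCompact (N.ι ≫ f) := quasiCompact_of_compactSpace _
  obtain ⟨W, ⟨hWc, hWfin, hWall⟩, -⟩ := EtLocal.existsUnique_isFinitePart (N.ι ≫ f)
  let W' : X.Opens := N.ι ''ᵁ W
  have hfacW : ∃ e : W.toScheme ⟶ W'.toScheme, IsIso e ∧ e ≫ W'.ι = W.ι ≫ N.ι := by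
    have hr : Set.range (W.ι ≫ N.ι) ⊆ Set.range W'.ι := by
      rw [Scheme.Opens.range_ι]; rintro _ ⟨w, rfl⟩; exact ⟨W.ι w, w.2, rfl⟩
    refine ⟨IsOpenImmersion.lift W'.ι (W.ι ≫ N.ι) hr, ?_, IsOpenImmersion.lift_fac _ _ _⟩
    haveI : IsOpenImmersion (IsOpenImmersion.lift W'.ι (W.ι ≫ N.ι) hr ≫ W'.ι) := by
      rw [IsOpenImmersion.lift_fac]; infer_instance
    haveI : IsOpenImmersion (IsOpenImmersion.lift W'.ι (W.ι ≫ N.ι) hr) := IsOpenImmersion.of_comp _ W'.ι
    haveI : Surjective (IsOpenImmersion.lift W'.ι (W.ι ≫ N.ι) hr) := ⟨fun v => by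
      obtain ⟨w, hw, hwv⟩ := v.2
      refine ⟨⟨w, hw⟩, W'.ι.isOpenEmbedding.injective ?_⟩
      rw [← Scheme.Hom.comp_apply, IsOpenImmersion.lift_fac]
      exact hwv⟩
    exact (isIso_iff_isOpenImmersion_and_surjective _).2 ⟨inferInstance, inferInstance⟩
  obtain ⟨eW, heW, heWι⟩ := hfacW
  haveI := heW
  haveI hfin' : IsFinite (W'.ι ≫ f) := by
    haveI := hWfin
    rw [show W'.ι ≫ f = inv eW ≫ W.ι ≫ N.ι ≫ f by rw [← reassoc_of% heWι, IsIso.inv_hom_id_assoc]]
    infer_instance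
  have hxW : x ∈ W' := ⟨⟨x, hxN⟩, hWall ⟨x, hxN⟩ hx, rfl⟩
  have hgen : ∀ y ∈ W', y ⤳ x := fun y hy => by
    obtain ⟨x', h1, h2⟩ := EtLocal.exists_specializes_closedPoint (W'.ι ≫ f) (⟨y, hy⟩ : W'.toScheme)
    have h3 : W'.ι x' = x := by
      obtain ⟨w, hw, hwx⟩ := x'.2
      have hwN : W'.ι x' ∈ N := by rw [show W'.ι x' = N.ι w from hwx.symm]; exact w.2
      exact hOu _ (hNO hwN) h2
    exact h3 ▸ h1.map W'.ι.continuous
  have hWaff : IsAffineOpen W' := by
    haveI : IsAffineHom (W'.ι ≫ f) := inferInstance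
    exact isAffine_of_isAffineHom (W'.ι ≫ f)
  obtain ⟨hoi, hrange, e, he, heι⟩ := fromSpecStalk_of_affine hWaff hxW hgen
  haveI := hoi
  haveI := he
  haveI : IsFinite (X.fromSpecStalk x ≫ f) := by rw [← heι, Category.assoc]; infer_instance
  haveI : IsClosedImmersion (X.fromSpecStalk x) := by
    haveI : IsProper (X.fromSpecStalk x) := IsProper.of_comp (X.fromSpecStalk x) f
    exact IsClosedImmersion.of_isPreimmersion _ (X.fromSpecStalk x).isClosedMap.isClosed_range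
  haveI : Etale (X.fromSpecStalk x ≫ f) := inferInstance
  refine ⟨hoi, inferInstance, inferInstance, inferInstance, ⟨fun t => ?_⟩, fun x' hx' hfx' => ?_⟩
  · have hc : closedPoint R ∈ Set.range (X.fromSpecStalk x ≫ f) :=
      ⟨closedPoint _, by rw [Scheme.Hom.comp_apply, Scheme.fromSpecStalk_closedPoint]; exact hx⟩
    obtain ⟨q, hq⟩ := hc
    obtain ⟨q', -, hq'⟩ := Flat.generalizingMap (X.fromSpecStalk x ≫ f) (hq ▸ IsLocalRing.specializes_closedPoint t)
    exact ⟨q', hq'⟩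
  · rw [hrange] at hx'
    obtain ⟨w, hw, rfl⟩ := hx'
    exact hOu _ (hNO w.2) hfx'

theorem exists_unique_piece (hval : ValuativeCriterion.Existence f) (y : X) :
    ∃! x : X, f x = closedPoint R ∧ y ∈ Set.range (X.fromSpecStalk x) := by
  obtain ⟨x, hyx, hx⟩ := ValuativeCriterion.Existence.specializingMap _ hval (IsLocalRing.specializes_closedPoint (f y))
  have hmem : y ∈ Set.range (X.fromSpecStalk x) := by
    rw [Scheme.range_fromSpecStalk]; exact hyx
  refine ⟨x, ⟨hx, hmem⟩, fun x' ⟨hx', hy'⟩ => ?_⟩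
  obtain ⟨hoi, hci, -, -, -, huniq⟩ := local_piece f x hx
  haveI := hci
  rw [Scheme.range_fromSpecStalk] at hy'
  exact huniq x' ((show y ⤳ x' from hy').mem_closed (X.fromSpecStalk x).isClosedEmbedding.isClosed_range hmem) hx'

end GrothLib.TorsorTriv19
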