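import Groth.Agent.Lib.TorsorTriv19.AbstractFibres
import Groth.Agent.Lib.TorsorTriv19.Extend
import Groth.Agent.Lib.HomScheme.ConstChart

/-!
# Extensions of smooth groups with connected fibres by twisted lattices split
-/

set_option autoImplicit false
set_option backward.isDefEq.respectTransparency false
set_option linter.style.haveILetI false
set_option synthInstance.maxHeartbeats 400000

universe u

open CategoryTheory CategoryTheory.Limits MonoidalCategory CartesianMonoidalCategory AlgebraicGeometry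
open scoped MonObj
open GrothLib.DiagGrp GrothLib.RepLocal GrothLib.HomScheme

namespace GrothLib.TorsorTriv19

variable {S : Scheme.{u}}

theorem nonempty_constChart {R : Over S} [GrpObj R] {W : Scheme.{u}} (f : W ⟶ S) {M : Type} [Group M]
    (e : Red.bc f R ≅ TwC.const W M) (he : TwC.IsConstGrp M (Red.bc f R) e) : Nonempty (ConstChart R f M) := by
  let s : M → (Over.mk f ⟶ R) := fun m => overUnit f ≫ (bcPointMulEquiv f R _).symm (TwC.pt W M m ≫ e.inv)
  refine ⟨⟨s, fun m n => ?_, fun X a t => ?_, fun X t m n h z => ?_⟩⟩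
  · simp only [s, ← MonObj.comp_mul, ← map_mul, he m n]
  · let z : overOf f t ⟶ TwC.const W M := bcPoint f R _ ((overOfIso f t).hom ≫ a) ≫ e.hom
    let V : M → X.left.Opens := fun m => z.left ⁻¹ᵁ (Sigma.ι (fun _ : M => W) m).opensRange
    refine ⟨V, TopologicalSpace.IsOpenCover.mk (eq_top_iff.mpr fun x _ => ?_), fun m => ?_⟩
    · obtain ⟨i, y, hy⟩ := (sigmaOpenCover (fun _ : M => W)).exists_eq (z.left x)
      exact TopologicalSpace.Opens.mem_iSup.mpr ⟨i, y, hy⟩
    · let l : overOf f (opnι X (V m) ≫ t) ⟶ overOf f t := Over.homMk (V m).ι rfl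
      have hl : (Over.map f).map l ≫ (overOfIso f t).hom = (overOfIso f (opnι X (V m) ≫ t)).hom ≫ opnι X (V m) :=
        Over.OverMorphism.ext (by
          change (V m).ι ≫ 𝟙 _ = 𝟙 _ ≫ (V m).ι
          simp)
      have h2 : l ≫ z = toUnit _ ≫ TwC.pt W M m := by
        apply Over.OverMorphism.ext
        change (V m).ι ≫ z.left = (toUnit (overOf f (opnι X (V m) ≫ t))).left ≫ Sigma.ι (fun _ : M => W) m
        rw [eq_of_mem_piece W M ((V m).ι ≫ z.left) m fun x => x.2]
        congr 1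
        rw [Category.assoc, Over.w z]
        exact ((Category.comp_id _).symm.trans (Over.w (toUnit (overOf f (opnι X (V m) ≫ t))))).symm
      rw [← cancel_epi (overOfIso f (opnι X (V m) ≫ t)).hom]
      apply (bcPoint f R _).injective
      have h3 := bcPoint_overOf f (opnι X (V m) ≫ t) (TwC.pt W M m ≫ e.inv)
      simp only [Category.assoc] at h3
      rw [h3, ← Category.assoc (toUnit _), ← h2, ← reassoc_of% hl, bcPoint_comp]
      simp [z]
  · have h3 := bcPoint_overOf f t (TwC.pt W M m ≫ e.inv)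
    have h4 := bcPoint_overOf f t (TwC.pt W M n ≫ e.inv)
    simp only [s] at h
    rw [h, h4, ← Category.assoc, ← Category.assoc, cancel_mono] at h3
    have h5 : ((toUnit (overOf f t)).left ≫ Sigma.ι (fun _ : M => W) n) z =
        ((toUnit (overOf f t)).left ≫ Sigma.ι (fun _ : M => W) m) z := congrArg (fun b => b.left z) h3
    by_contra hne
    refine (disjoint_opensRange_sigmaι (fun _ : M => W) m n hne).le_bot
      (x := Sigma.ι (fun _ : M => W) m ((toUnit (overOf f t)).left z)) ⟨⟨_, rfl⟩, ⟨(toUnit (overOf f t)).left z, h5⟩⟩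

section Group

variable {M E P : Over S} [GrpObj M] [GrpObj E] [GrpObj P] [Etale M.hom] [IsSeparated M.hom]

/-- A map to a separated étale group which is trivial along a section of a projection with connected
fibres is trivial. -/
theorem eq_one_of_connected [GeometricallyConnected P.hom] {T : Over S} (d : T ⊗ P ⟶ M)
    (hd : lift (𝟙 T) (toUnit T ≫ η[P]) ≫ d = 1) : d = 1 := by
  let W := (T ⊗ P).left
  let p : W ⟶ T.left := (fst T P).left
  haveI : GeometricallyConnected p := inferInstanceAs (GeometricallyConnected (pullback.fst T.hom P.hom))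
  let one' : T ⊗ P ⟶ M := 1
  let l : W ⟶ pullback M.hom M.hom := pullback.lift d.left one'.left ((Over.w d).trans (Over.w one').symm)
  let δ := pullback.diagonal M.hom
  let j := pullback.snd δ l
  haveI : IsClosedImmersion j := inferInstance
  haveI : IsOpenImmersion δ := inferInstance
  haveI : IsOpenImmersion j := inferInstance
  let sec : T ⟶ T ⊗ P := lift (𝟙 T) (toUnit T ≫ η[P])
  have hsec : ∀ t, sec.left t ∈ Set.range j := fun t => by
    have e : sec.left ≫ d.left = sec.left ≫ one'.left := by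
      rw [← Over.comp_left, ← Over.comp_left, hd, MonObj.comp_one]
    refine ⟨pullback.lift (sec.left ≫ d.left) sec.left (pullback.hom_ext (by simp [δ, l]) (by simp [δ, l, e])) t, ?_⟩
    rw [← Scheme.Hom.comp_apply, pullback.lift_snd]
  haveI : Surjective j := ⟨fun w => by
    let s := p w
    let Fs := p.fiber s
    haveI : ConnectedSpace Fs := inferInstance
    have hclopen : IsClopen ((p.fiberι s) ⁻¹' Set.range j) :=
      IsClopen.preimage ⟨j.isClosedEmbedding.isClosed_range, j.isOpenEmbedding.isOpen_range⟩ (p.fiberι s).continuous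
    have hs : sec.left s ∈ Set.range (p.fiberι s) := by
      rw [Scheme.Hom.range_fiberι]
      show ((fst T P).left (sec.left s)) = s
      rw [← Scheme.Hom.comp_apply, ← Over.comp_left, lift_fst]; rfl
    obtain ⟨a, ha⟩ := hs
    have huniv := hclopen.eq_univ ⟨a, by show p.fiberι s a ∈ Set.range j; rw [ha]; exact hsec s⟩
    obtain ⟨b, hb⟩ : w ∈ Set.range (p.fiberι s) := by rw [Scheme.Hom.range_fiberι]; rfl
    have : b ∈ (p.fiberι s) ⁻¹' Set.range j := huniv ▸ Set.mem_univ b
    rw [Set.mem_preimage, hb] at this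
    exact this⟩
  haveI : IsIso j := (isIso_iff_isOpenImmersion_and_surjective j).2 ⟨inferInstance, inferInstance⟩
  have hc := pullback.condition (f := δ) (g := l)
  have h1 : pullback.fst δ l = j ≫ d.left := by
    simpa [δ, l, j] using congrArg (· ≫ pullback.fst M.hom M.hom) hc
  have h2 : pullback.fst δ l = j ≫ one'.left := by
    simpa [δ, l, j] using congrArg (· ≫ pullback.snd M.hom M.hom) hc
  exact Over.OverMorphism.ext ((cancel_epi j).1 (h1.symm.trans h2))

variable {u : M ⟶ E} {v : E ⟶ P}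

omit [Etale M.hom] in
theorem isSeparated_of_exact (hex : NonAbH1.IsExactSeq Scheme.fppfPrecoverage u v) : IsSeparated v.left := by
  haveI := hex.1
  have hsq := hex.2.2.2.1.map (Over.forget S)
  haveI : IsSeparated (fst E M).left := inferInstanceAs (IsSeparated (pullback.fst E.hom M.hom))
  let s : E.left ⟶ (E ⊗ M).left := (lift (𝟙 E) (1 : E ⟶ M)).left
  have hs : s ≫ (fst E M).left = 𝟙 _ := by rw [← Over.comp_left, lift_fst]; rfl
  haveI : IsClosedImmersion (s ≫ (fst E M).left) := by rw [hs]; infer_instance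
  haveI : IsClosedImmersion s := IsClosedImmersion.of_comp s (fst E M).left
  have hd : pullback.diagonal v.left = s ≫ hsq.isoPullback.hom := by
    apply pullback.hom_ext
    · rw [pullback.diagonal_fst, Category.assoc]
      exact (hs.symm.trans (congrArg (s ≫ ·) hsq.isoPullback_hom_fst.symm))
    · rw [pullback.diagonal_snd, Category.assoc]
      refine Eq.trans ?_ (congrArg (s ≫ ·) hsq.isoPullback_hom_snd.symm)
      show _ = ((lift (𝟙 E) (1 : E ⟶ M)) ≫ (E ◁ u) ≫ μ[E]).left
      rw [lift_whiskerLeft_assoc, ← Hom.mul_def, MonObj.one_comp, _root_.mul_one]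
      rfl
  exact ⟨by rw [hd]; infer_instance⟩

theorem hom_ext_connected [GeometricallyConnected P.hom] (hex : NonAbH1.IsExactSeq Scheme.fppfPrecoverage u v)
    {T : Over S} (a b : T ⊗ P ⟶ E) (hab : a ≫ v = b ≫ v)
    (h0 : lift (𝟙 T) (toUnit T ≫ η[P]) ≫ a = lift (𝟙 T) (toUnit T ≫ η[P]) ≫ b) : a = b := by
  haveI := hex.1
  obtain ⟨g, hg, -⟩ := existsUnique_kernel hex a b hab
  let σ := lift (𝟙 T) (toUnit T ≫ η[P])
  have h1 : σ ≫ a = (σ ≫ a) * ((σ ≫ g) ≫ u) := by
    rw [Category.assoc, ← MonObj.comp_mul, ← hg]; exact h0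
  have h2 : σ ≫ a = (σ ≫ a) * ((1 : T ⟶ M) ≫ u) := by rw [MonObj.one_comp, _root_.mul_one]
  have h3 : σ ≫ g = 1 := (existsUnique_kernel hex (σ ≫ a) (σ ≫ a) rfl).unique h1 h2
  rw [hg, eq_one_of_connected g h3, MonObj.one_comp, _root_.mul_one]

theorem isPullback_whiskerLeft (T : Over S) (v : E ⟶ P) :
    IsPullback (snd T E) (T ◁ v) v (snd T P) := by
  refine IsPullback.of_isLimit (PullbackCone.IsLimit.mk (whiskerLeft_snd T v).symm
    (fun c => lift (c.snd ≫ fst T P) c.fst) (fun c => lift_snd _ _) (fun c => ?_) fun c l hl₁ hl₂ => ?_)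
  · apply CartesianMonoidalCategory.hom_ext
    · simp
    · simp [c.condition]
  · apply CartesianMonoidalCategory.hom_ext
    · rw [lift_fst, ← hl₂]; simp
    · rw [lift_snd, ← hl₁]

/-- Over a chart on which the kernel is constant and torsion free there is a normalised section. -/
theorem exists_local_section [Smooth P.hom] [QuasiSeparated P.hom] [GeometricallyConnected P.hom]
    (hex : NonAbH1.IsExactSeq Scheme.fppfPrecoverage u v) {Z : Type} [Group Z]
    (hZ : ∀ z : Z, IsOfFinOrder z → z = 1) {W : Scheme.{u}} (f : W ⟶ S) (C : ConstChart M f Z) :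
    ∃ s : Over.mk f ⊗ P ⟶ E, s ≫ v = snd (Over.mk f) P ∧
      lift (𝟙 (Over.mk f)) (toUnit (Over.mk f) ≫ η[P]) ≫ s = 1 := by
  haveI := hex.1
  haveI := hex.2.1
  let T := Over.mk f
  obtain ⟨hvE, hvS⟩ := etale_surjective hex
  have hvP := isSeparated_of_exact hex
  have hsq := (isPullback_whiskerLeft T v).map (Over.forget S)
  let g : (T ⊗ E).left ⟶ (T ⊗ P).left := (T ◁ v).left
  haveI : Etale g := MorphismProperty.of_isPullback hsq hvE
  haveI : IsSeparated g := MorphismProperty.of_isPullback hsq hvP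
  haveI : Surjective g := MorphismProperty.of_isPullback hsq hvS
  have hone : C.sec 1 = 1 := by
    have h := C.sec_mul 1 1
    rw [_root_.mul_one] at h
    exact mul_eq_left.1 h.symm
  haveI : Smooth (fst T P).left := inferInstanceAs (Smooth (pullback.fst T.hom P.hom))
  haveI : QuasiSeparated (fst T P).left := inferInstanceAs (QuasiSeparated (pullback.fst T.hom P.hom))
  haveI : GeometricallyConnected (fst T P).left :=
    inferInstanceAs (GeometricallyConnected (pullback.fst T.hom P.hom))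
  let tr : Z → (T ⊗ E ⟶ T ⊗ E) := fun n => lift (fst T E) (snd T E * (fst T E ≫ C.sec n ≫ u))
  have htr : ∀ {R : Over S} (x : R ⟶ T ⊗ E) (n : Z),
      x ≫ tr n = lift (x ≫ fst T E) ((x ≫ snd T E) * ((x ≫ fst T E) ≫ C.sec n ≫ u)) := fun x n => by
    simp [tr, comp_lift, MonObj.comp_mul]
  have hov : ∀ n, tr n ≫ (T ◁ v) = T ◁ v := fun n => by
    apply CartesianMonoidalCategory.hom_ext
    · simp [tr]
    · simp only [tr, Category.assoc, whiskerLeft_snd, lift_snd_assoc, MonObj.mul_comp]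
      rw [hex.2.2.1, MonObj.comp_one, MonObj.comp_one, _root_.mul_one]
  have huniq : ∀ (K : Type u) [Field K] (q : Spec (CommRingCat.of K) ⟶ T.left) (n₁ n₂ : Z),
      (Over.homMk q : Over.mk (q ≫ T.hom) ⟶ T) ≫ C.sec n₁ = (Over.homMk q : Over.mk (q ≫ T.hom) ⟶ T) ≫ C.sec n₂ →
        n₁ = n₂ := fun K _ q n₁ n₂ h =>
    C.index_unique (Over.mk (q ≫ T.hom)) (Over.homMk q) n₁ n₂ h (IsLocalRing.closedPoint K)
  obtain ⟨σ, hσ, hσe⟩ := exists_section_of_connected (S := T.left) g (fun n => (tr n⁻¹).left) (fun m n => by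
      rw [← Over.comp_left, htr]
      congr 1
      simp only [tr, lift_fst, lift_snd]
      rw [_root_.mul_assoc, ← MonObj.comp_mul, ← MonObj.mul_comp, ← C.sec_mul, mul_inv_rev])
    (by
      show (tr (1 : Z)⁻¹).left = _
      rw [inv_one]
      simp only [tr, hone, MonObj.one_comp, MonObj.comp_one, _root_.mul_one, lift_fst_snd]
      rfl)
    (fun n => by rw [← Over.comp_left, hov])
    (fun n K _ x hx => by
      let R : Over S := Over.mk (x ≫ (T ⊗ E).hom)
      let x' : R ⟶ T ⊗ E := Over.homMk x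
      have h1 : x' ≫ tr n⁻¹ = x' := Over.OverMorphism.ext hx
      rw [htr] at h1
      have h2 := congrArg (· ≫ snd T E) h1
      simp only [lift_snd] at h2
      rw [mul_eq_left, ← Category.assoc] at h2
      let q : R ⟶ T := x' ≫ fst T E
      have h3 : (q ≫ C.sec n⁻¹) = 1 := by
        have ha : (x' ≫ snd T E) = (x' ≫ snd T E) * ((q ≫ C.sec n⁻¹) ≫ u) := by rw [h2, _root_.mul_one]
        have hb : (x' ≫ snd T E) = (x' ≫ snd T E) * ((1 : R ⟶ M) ≫ u) := by
          rw [MonObj.one_comp, _root_.mul_one]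
        exact (existsUnique_kernel hex (x' ≫ snd T E) (x' ≫ snd T E) rfl).unique ha hb
      have h4 : q ≫ C.sec n⁻¹ = q ≫ C.sec 1 := by rw [h3, hone, MonObj.comp_one]
      exact inv_eq_one.1 (C.index_unique R q _ _ h4 (IsLocalRing.closedPoint K)))
    (fun K _ x y hxy => by
      let R : Over S := Over.mk (x ≫ (T ⊗ E).hom)
      let x' : R ⟶ T ⊗ E := Over.homMk x
      let y' : R ⟶ T ⊗ E := Over.homMk y (by
        show y ≫ (T ⊗ E).hom = x ≫ (T ⊗ E).hom
        rw [← Over.w (T ◁ v), ← Category.assoc, ← hxy, Category.assoc])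
      have hxy' : x' ≫ (T ◁ v) = y' ≫ (T ◁ v) := Over.OverMorphism.ext hxy
      have hf : x' ≫ fst T E = y' ≫ fst T E := by simpa using congrArg (· ≫ fst T P) hxy'
      have hs : (x' ≫ snd T E) ≫ v = (y' ≫ snd T E) ≫ v := by simpa using congrArg (· ≫ snd T P) hxy'
      obtain ⟨a, ha, -⟩ := existsUnique_kernel hex _ _ hs
      obtain ⟨V, hV, hVm⟩ := C.cover R a (x' ≫ fst T E)
      let r₀ : R.left := IsLocalRing.closedPoint K
      obtain ⟨n, hn⟩ := TopologicalSpace.Opens.mem_iSup.1 (hV.iSup_eq_top ▸ TopologicalSpace.Opens.mem_top r₀ :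
        r₀ ∈ ⨆ m, V m)
      haveI : Subsingleton R.left := inferInstanceAs (Subsingleton (Spec (CommRingCat.of K)))
      have htop : V n = ⊤ := eq_top_iff.2 fun r _ => Subsingleton.elim r₀ r ▸ hn
      haveI : IsIso ((Over.forget S).map (opnι R (V n))) := by
        show IsIso (V n).ι
        haveI : Surjective (V n).ι := ⟨fun r => ⟨⟨r, by rw [htop]; trivial⟩, rfl⟩⟩
        exact (isIso_iff_isOpenImmersion_and_surjective _).2 ⟨inferInstance, inferInstance⟩
      haveI : IsIso (opnι R (V n)) := isIso_of_reflects_iso _ (Over.forget S)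
      have han : a = (x' ≫ fst T E) ≫ C.sec n := (cancel_epi (opnι R (V n))).1 (hVm n)
      refine ⟨n⁻¹, ?_⟩
      show x ≫ (tr n⁻¹⁻¹).left = y
      rw [inv_inv]
      have he : x' ≫ tr n = y' := by
        rw [htr]
        apply CartesianMonoidalCategory.hom_ext
        · rw [lift_fst, hf]
        · rw [lift_snd, ha, han, Category.assoc, Category.assoc, Category.assoc]
      exact congrArg CommaMorphism.left he)
    hZ (fst T P).left (lift (𝟙 T) (toUnit T ≫ η[P])).left (by rw [← Over.comp_left, lift_fst]; rfl)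
    (lift (𝟙 T) (1 : T ⟶ E)).left (by
      rw [← Over.comp_left]
      congr 1
      rw [lift_whiskerLeft, MonObj.one_comp, Hom.one_def])
  let σ' : T ⊗ P ⟶ T ⊗ E := Over.homMk σ (by
    rw [← Over.w (T ◁ v), ← Category.assoc, hσ, Category.id_comp])
  have hσ' : σ' ≫ (T ◁ v) = 𝟙 _ := Over.OverMorphism.ext hσ
  refine ⟨σ' ≫ snd T E, ?_, ?_⟩
  · simpa using congrArg (· ≫ snd T P) hσ'
  · have h : lift (𝟙 T) (toUnit T ≫ η[P]) ≫ σ' = lift (𝟙 T) (1 : T ⟶ E) := Over.OverMorphism.ext hσe
    rw [← Category.assoc, h, lift_snd]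

end Group

theorem ofArrows_mem_fpqc {S' : Scheme.{u}} (π : S' ⟶ S) [Flat π] [Surjective π]
    (hqc : ∀ V : S.Opens, IsAffineOpen V → ∃ W : S'.Opens, IsCompact (W : Set S') ∧ π.base '' (W : Set S') = (V : Set S))
    (U : S' → S'.Opens) (hU : ∀ s, s ∈ U s) :
    Presieve.ofArrows (fun s => (U s).toScheme) (fun s => (U s).ι ≫ π) ∈ Scheme.fpqcPrecoverage S := by
  refine ⟨?_, ?_⟩
  · show Presieve.ofArrows _ _ ∈ Scheme.qcPrecoverage S
    show (PreZeroHypercover.mk S' (fun s => (U s).toScheme) (fun s => (U s).ι ≫ π)).presieve₀ ∈ _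
    rw [Scheme.presieve₀_mem_qcPrecoverage_iff]
    refine ⟨fun {V} hV => ?_⟩
    obtain ⟨W, hWc, hWim⟩ := hqc V hV
    have hcov : TopologicalSpace.IsOpenCover U := TopologicalSpace.IsOpenCover.mk
      (eq_top_iff.2 fun s _ => TopologicalSpace.Opens.mem_iSup.2 ⟨s, hU s⟩)
    obtain ⟨t, ht, Vs, hVs, heq⟩ := QuasiCompactCover.isCompactOpenCovered_of_isCompact
      (S'.openCoverOfIsOpenCover U hcov).toPreZeroHypercover hWc
    refine ⟨t, ht, Vs, hVs, ?_⟩
    rw [← hWim, ← heq]
    simp only [Set.image_iUnion, Set.image_image]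
    rfl
  · rw [Scheme.ofArrows_mem_precoverage_iff]
    refine ⟨fun s => ?_, fun s => inferInstance⟩
    obtain ⟨s', rfl⟩ := π.surjective s
    exact ⟨s', ⟨s', hU s'⟩, rfl⟩

/-- Extensions of a smooth group with connected fibres by a twisted lattice split, uniquely. -/
theorem splits_lattice {P E M : Over S} [GrpObj P] [GrpObj E] [GrpObj M]
    [Smooth P.hom] [QuasiSeparated P.hom] [GeometricallyConnected P.hom]
    (hM : TwC.Locally S TwC.Topology.fpqc (fun S' f =>
      ∃ (r : ℕ) (e : Red.bc f M ≅ TwC.const S' (Multiplicative (Fin r → ℤ))),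
        TwC.IsConstGrp (Multiplicative (Fin r → ℤ)) (Red.bc f M) e))
    (u : M ⟶ E) (v : E ⟶ P) (hex : NonAbH1.IsExactSeq Scheme.fppfPrecoverage u v) :
    (∀ φ : P ⟶ M, IsMonHom φ → φ = 1) ∧ ∃ s : P ⟶ E, IsMonHom s ∧ s ≫ v = 𝟙 P := by
  haveI := hex.1
  haveI := hex.2.1
  obtain ⟨S', π, hflat, hsurj, hqc, hloc⟩ := hM
  haveI := hflat
  haveI := hsurj
  choose U hU r e he using hloc
  let κ := fun s => (U s).ι ≫ π
  have hmem := ofArrows_mem_fpqc π hqc U hU
  obtain ⟨hqcc, hfl, -⟩ := FpqcCov.quasiCompactCover_and_flat _ hmem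
  have hloc' : ∀ (Q : MorphismProperty Scheme.{u}) [IsZariskiLocalAtTarget Q]
      [Q.DescendsAlong (@Surjective ⊓ @Flat ⊓ @QuasiCompact : MorphismProperty Scheme.{u})],
      (∀ s, Q (TwC.const (U s).toScheme (Multiplicative (Fin (r s) → ℤ))).hom) → Q M.hom := by
    intro Q _ _ hQ
    refine FpqcCov.of_fpqc Q inferInstance M.hom (PreZeroHypercover.mk S' (fun s => (U s).toScheme) κ) hfl fun s => ?_
    show Q (pullback.snd M.hom (κ s))
    haveI : IsIso (e s).hom.left := inferInstanceAs (IsIso ((Over.forget _).map (e s).hom))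
    have hw : (e s).hom.left ≫ (TwC.const (U s).toScheme (Multiplicative (Fin (r s) → ℤ))).hom =
        pullback.snd M.hom (κ s) := Over.w (e s).hom
    rw [← hw, Q.cancel_left_of_respectsIso]
    exact hQ s
  haveI := GrothLib.EtSite.descendsAlong_isSeparated.{u}
  haveI : Etale M.hom := hloc' @Etale (fun s => HomScheme.etale_const _ _)
  haveI : IsSeparated M.hom := hloc' @IsSeparated (fun s => HomScheme.isSeparated_const _ _)
  refine ⟨fun φ hφ => ?_, ?_⟩
  · haveI := hφ
    have h := eq_one_of_connected (T := 𝟙_ (Over S)) (snd (𝟙_ (Over S)) P ≫ φ) (by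
      rw [lift_snd_assoc, Category.assoc, IsMonHom.one_hom, Hom.one_def])
    rw [← leftUnitor_hom] at h
    rw [← cancel_epi (λ_ P).hom, h, MonObj.comp_one]
  -- local sections
  have hs : ∀ s, ∃ sec : Over.mk (κ s) ⊗ P ⟶ E, sec ≫ v = snd (Over.mk (κ s)) P ∧
      lift (𝟙 (Over.mk (κ s))) (toUnit (Over.mk (κ s)) ≫ η[P]) ≫ sec = 1 := fun s => by
    obtain ⟨C⟩ := nonempty_constChart (κ s) (e s) (he s)
    refine exists_local_section hex (fun z hz => ?_) (κ s) C
    obtain ⟨n, hn, hzn⟩ := hz.exists_pow_eq_one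
    rw [← toAdd_eq_zero]
    have h := congrArg Multiplicative.toAdd hzn
    rw [toAdd_pow, toAdd_one] at h
    exact (smul_eq_zero.1 h).resolve_left hn.ne'
  choose sec hsec₁ hsec₂ using hs
  let zι : ∀ s, FpqcRep.pb κ (𝟙_ (Over S)) s ⟶ Over.mk (κ s) := fun s =>
    Over.homMk (pullback.fst (κ s) (𝟙_ (Over S)).hom) rfl
  let fi : ∀ s, FpqcRep.pb κ (𝟙_ (Over S)) s ⊗ P ⟶ E := fun s => (zι s ▷ P) ≫ sec s
  have hfi₁ : ∀ s, fi s ≫ v = snd _ P := fun s => by simp [fi, hsec₁]
  have hfi₂ : ∀ s (R : Over S) (a : R ⟶ FpqcRep.pb κ (𝟙_ (Over S)) s),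
      lift (𝟙 R) (toUnit R ≫ η[P]) ≫ (a ▷ P) ≫ fi s = 1 := fun s R a => by
    have e' : lift (𝟙 R) (toUnit R ≫ η[P]) ≫ (a ▷ P) ≫ (zι s ▷ P) =
        (a ≫ zι s) ≫ lift (𝟙 (Over.mk (κ s))) (toUnit (Over.mk (κ s)) ≫ η[P]) := by
      apply CartesianMonoidalCategory.hom_ext
      · simp
      · simp only [Category.assoc, whiskerRight_snd, lift_snd]
        rw [← toUnit_unique (a ≫ zι s ≫ toUnit (Over.mk (κ s))) (toUnit R)]
        simp only [Category.assoc]
    simp only [fi]
    rw [reassoc_of% e', hsec₂, MonObj.comp_one, MonObj.comp_one]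
  obtain ⟨k, hk, -⟩ := FpqcRep.existsUnique_hom hmem (𝟙_ (Over S)) P fi fun i j R a b _ => by
    refine hom_ext_connected hex _ _ ?_ ?_
    · simp only [Category.assoc, hfi₁]
      exact (whiskerRight_snd _ _).trans (whiskerRight_snd _ _).symm
    · rw [hfi₂, hfi₂]
  have hk₁ : k ≫ v = snd (𝟙_ (Over S)) P := FpqcRep.hom_ext_pb hmem _ _ fun i => by
    rw [← Category.assoc, hk, hfi₁]
    exact (whiskerRight_snd _ _).symm
  obtain ⟨s₀, hs₀⟩ : ∃ s₀ : P ⟶ E, s₀ ≫ v = 𝟙 P := ⟨(λ_ P).inv ≫ k, by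
    rw [Category.assoc, hk₁, ← leftUnitor_hom, Iso.inv_hom_id]⟩
  obtain ⟨s', hs', hs'1⟩ : ∃ s' : P ⟶ E, s' ≫ v = 𝟙 P ∧ η[P] ≫ s' = η[E] := by
    refine ⟨s₀ * (toUnit P ≫ η[P] ≫ s₀)⁻¹, ?_, ?_⟩
    · rw [MonObj.mul_comp, GrpObj.inv_comp, Category.assoc, Category.assoc, hs₀, Category.comp_id, ← Hom.one_def,
        inv_one, _root_.mul_one]
    · rw [MonObj.comp_mul, GrpObj.comp_inv, ← Category.assoc η[P] (toUnit P),
        toUnit_unique (η[P] ≫ toUnit P) (𝟙 _), Category.id_comp, mul_inv_cancel, Hom.one_def, toUnit_unit,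
        Category.id_comp]
  refine ⟨s', ⟨hs'1, ?_⟩, hs'⟩
  refine hom_ext_connected hex _ _ ?_ ?_
  · rw [Category.assoc, Category.assoc, hs', Category.comp_id, IsMonHom.mul_hom, tensorHom_comp_tensorHom_assoc,
      hs', id_tensorHom_id, Category.id_comp]
  · have e1 : (s' ⊗ₘ s') ≫ μ[E] = (fst P P ≫ s') * (snd P P ≫ s') := by
      rw [Hom.mul_def]
      congr 1
    have e2 : μ[P] = fst P P * snd P P := by rw [Hom.mul_def, lift_fst_snd, Category.id_comp]
    rw [e1, e2, MonObj.comp_mul, ← Category.assoc, MonObj.comp_mul, lift_fst_assoc, lift_snd_assoc, lift_fst,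
      lift_snd, ← Hom.one_def, _root_.mul_one, Category.id_comp, Hom.one_def, Category.assoc, hs'1, ← Hom.one_def,
      _root_.mul_one]

end GrothLib.TorsorTriv19
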