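import Groth.Agent.Lib.TorsorTriv19.Components
import Groth.Agent.Lib.GrpExt19.ConstSplit
import Groth.Prelude.Def_Red

/-!
# Maps to constant schemes extend from the generic fibre
-/

set_option autoImplicit false
set_option backward.isDefEq.respectTransparency false
set_option linter.style.haveILetI false

universe u

open CategoryTheory CategoryTheory.Limits MonoidalCategory CartesianMonoidalCategory AlgebraicGeometry
open scoped MonObj

namespace GrothLib.TorsorTriv19

variable {S : Scheme.{u}} {Z : Type u}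

theorem exists_index_piece {W : Scheme.{u}} (q : W ⟶ (TwC.const S Z).left) :
    ∃ m : W → Z, (∀ w, q w ∈ (Sigma.ι (fun _ : Z => S) (m w)).opensRange) ∧ ∀ n, IsOpen (m ⁻¹' {n}) := by
  have h : ∀ w, ∃ n, q w ∈ (Sigma.ι (fun _ : Z => S) n).opensRange := fun w => by
    obtain ⟨n, y, hy⟩ := (sigmaOpenCover (fun _ : Z => S)).exists_eq (q w)
    exact ⟨n, y, hy⟩
  choose m hm using h
  refine ⟨m, hm, fun n => ?_⟩
  have : m ⁻¹' {n} = q ⁻¹' SetLike.coe (Sigma.ι (fun _ : Z => S) n).opensRange := by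
    ext w
    exact ⟨fun hw => by rw [Set.mem_preimage, Set.mem_singleton_iff] at hw; exact hw ▸ hm w,
      fun hw => GrpExt19.mem_piece_unique (hm w) hw⟩
  rw [this]
  exact (Sigma.ι (fun _ : Z => S) n).opensRange.2.preimage q.continuous

theorem hom_ext_index {W : Over S} (a b : W ⟶ TwC.const S Z) (m : W.left → Z) (hm : ∀ n, IsOpen (m ⁻¹' {n}))
    (ha : ∀ w, a.left w ∈ (Sigma.ι (fun _ : Z => S) (m w)).opensRange)
    (hb : ∀ w, b.left w ∈ (Sigma.ι (fun _ : Z => S) (m w)).opensRange) : a = b := by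
  refine Over.OverMorphism.ext (Scheme.Cover.hom_ext (W.left.openCoverOfIsOpenCover
    (fun n => ⟨m ⁻¹' {n}, hm n⟩) ?_) _ _ fun n => ?_)
  · exact TopologicalSpace.IsOpenCover.mk (eq_top_iff.2 fun w _ =>
      TopologicalSpace.Opens.mem_iSup.2 ⟨m w, rfl⟩)
  · let V : W.left.Opens := ⟨m ⁻¹' {n}, hm n⟩
    show V.ι ≫ a.left = V.ι ≫ b.left
    have h1 := HomScheme.eq_of_mem_piece S Z (V.ι ≫ a.left) n fun t => by
      have := ha (V.ι t); rwa [show m (V.ι t) = n from t.2] at this
    have h2 := HomScheme.eq_of_mem_piece S Z (V.ι ≫ b.left) n fun t => by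
      have := hb (V.ι t); rwa [show m (V.ι t) = n from t.2] at this
    rw [h1, h2, Category.assoc, Category.assoc]
    have e : a.left ≫ (TwC.const S Z).hom = b.left ≫ (TwC.const S Z).hom := (Over.w a).trans (Over.w b).symm
    rw [← Category.assoc a.left, e]
    simp only [Category.assoc]

theorem exists_hom_of_index (T : Over S) (m : T.left → Z) (hm : ∀ n, IsOpen (m ⁻¹' {n})) :
    ∃ g : T ⟶ TwC.const S Z, ∀ w, g.left w ∈ (Sigma.ι (fun _ : Z => S) (m w)).opensRange := by
  let V : Z → T.left.Opens := fun n => ⟨m ⁻¹' {n}, hm n⟩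
  let e := Sigma.desc fun n => (V n).ι
  haveI : IsOpenImmersion e := by
    refine isOpenImmersion_sigmaDesc _ _ fun a b hab => ?_
    rw [Function.onFun, disjoint_iff_inf_le]
    rintro w ⟨ha, hb⟩
    rw [Scheme.Opens.range_ι] at ha hb
    exact hab (ha.symm.trans hb)
  haveI : Surjective e := ⟨fun w => ⟨Sigma.ι (fun n => (V n).toScheme) (m w) ⟨w, rfl⟩, by
    rw [← Scheme.Hom.comp_apply, Sigma.ι_desc]; rfl⟩⟩
  haveI : IsIso e := (isIso_iff_isOpenImmersion_and_surjective e).2 ⟨inferInstance, inferInstance⟩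
  let d : (∐ fun n => (V n).toScheme) ⟶ (TwC.const S Z).left :=
    Sigma.desc fun n => ((V n).ι ≫ T.hom) ≫ Sigma.ι (fun _ : Z => S) n
  have hd : d ≫ (TwC.const S Z).hom = e ≫ T.hom := by
    apply Sigma.hom_ext
    intro n
    simp [d, e]
  refine ⟨Over.homMk (inv e ≫ d) (by rw [Category.assoc, hd, IsIso.inv_hom_id_assoc]), fun w => ?_⟩
  obtain ⟨v, hv⟩ : ∃ v, Sigma.ι (fun n => (V n).toScheme) (m w) v = inv e w := by
    refine ⟨⟨w, rfl⟩, e.isOpenEmbedding.injective ?_⟩
    rw [← Scheme.Hom.comp_apply, Sigma.ι_desc, ← Scheme.Hom.comp_apply (inv e), IsIso.inv_hom_id]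
    rfl
  refine ⟨T.hom ((V (m w)).ι v), ?_⟩
  show _ = (inv e ≫ d) w
  rw [Scheme.Hom.comp_apply, ← hv, ← Scheme.Hom.comp_apply (Sigma.ι _ _) d, Sigma.ι_desc]
  rfl

section Generic

variable [IrreducibleSpace S] (hS : ∀ s : S, CAlg2.IsGeomUnibranch (S.presheaf.stalk s))
  (ξ : S) (hξ : IsGenericPoint ξ (Set.univ : Set S))

/-- The generic fibre as a scheme over the base. -/
noncomputable abbrev genW (T : Over S) : Over S :=
  Over.mk (pullback.fst T.hom (S.fromSpecResidueField ξ) ≫ T.hom)

/-- The inclusion of the generic fibre. -/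
noncomputable abbrev genJ (T : Over S) : genW ξ T ⟶ T :=
  Over.homMk (pullback.fst T.hom (S.fromSpecResidueField ξ))

include hS hξ in
theorem bijective_comp_genJ {G : Over S} (eG : G ≅ TwC.const S Z) (T : Over S) [Smooth T.hom] :
    Function.Bijective (fun g : T ⟶ G => genJ ξ T ≫ g) := by
  obtain rfl : ξ = genericPoint S := hξ.eq (genericPoint_spec S)
  suffices h : Function.Bijective (fun g : T ⟶ TwC.const S Z => genJ (genericPoint S) T ≫ g) by
    refine ⟨fun a b e => ?_, fun q => ?_⟩
    · have e' : genJ (genericPoint S) T ≫ a ≫ eG.hom = genJ (genericPoint S) T ≫ b ≫ eG.hom := by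
        simpa only [← Category.assoc] using congrArg (· ≫ eG.hom) e
      exact (cancel_mono eG.hom).1 (h.1 e')
    · obtain ⟨g, hg⟩ := h.2 (q ≫ eG.hom)
      exact ⟨g ≫ eG.inv, ((Category.assoc _ _ _).symm.trans (congrArg (· ≫ eG.inv) hg)).trans (by simp)⟩
  let j := pullback.fst T.hom (S.fromSpecResidueField (genericPoint S))
  have hj : Set.range j = T.hom ⁻¹' {genericPoint S} := T.hom.range_fiberι _
  have hgen : ∀ z : T.left, ∃ w, j w ⤳ z := fun z => by
    obtain ⟨a, ha, hga⟩ := Flat.generalizingMap T.hom (genericPoint_specializes (T.hom z))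
    obtain ⟨w, rfl⟩ : a ∈ Set.range j := by rw [hj]; exact hga
    exact ⟨w, ha⟩
  choose mg hmg hmax using fun z : T.left => Unibranch.exists_maximal_generization z
  have hmgj : ∀ z, ∃ w, j w = mg z := fun z => by
    obtain ⟨w, hw⟩ := hgen (mg z)
    exact ⟨w, hmax z _ hw⟩
  choose wz hwz using hmgj
  refine ⟨fun a b e => ?_, fun q => ?_⟩
  · obtain ⟨ma, hma, hmao⟩ := exists_index_piece a.left
    obtain ⟨mb, hmb, hmbo⟩ := exists_index_piece b.left
    have hab : ma = mb := funext fun z => by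
      have h1 : ma (mg z) = ma z := (hmg z).mem_open (hmao (ma z)) rfl
      have h2 : mb (mg z) = mb z := (hmg z).mem_open (hmbo (mb z)) rfl
      rw [← h1, ← h2, ← hwz z]
      have e' : a.left (j (wz z)) = b.left (j (wz z)) := congrArg (fun φ => φ.left (wz z)) e
      exact GrpExt19.mem_piece_unique (e' ▸ hma (j (wz z))) (hmb _)
    exact hom_ext_index a b ma hmao hma (hab ▸ hmb)
  · obtain ⟨mq, hmq, hmqo⟩ := exists_index_piece q.left
    let m : T.left → Z := fun z => mq (wz z)
    have hcomp : ∀ y z, y ∈ closure ({mg z} : Set T.left) → mg y = mg z := fun y z hy =>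
      eq_of_maximal_of_smooth T.hom hS (hmg y) (specializes_iff_mem_closure.2 hy) (hmax y) (hmax z)
    have hmo : ∀ n, IsOpen (m ⁻¹' {n}) := fun n => by
      rw [isOpen_iff_forall_mem_open]
      intro z hz
      refine ⟨closure {mg z}, fun y hy => ?_, isOpen_closure_of_maximal T.hom hS (hmax z), (hmg z).mem_closure⟩
      have : wz y = wz z := j.isEmbedding.injective (by rw [hwz, hwz, hcomp y z hy])
      show mq (wz y) = n
      rw [this]; exact hz
    obtain ⟨g, hg⟩ := exists_hom_of_index T m hmo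
    refine ⟨g, hom_ext_index _ _ mq hmqo (fun w => ?_) hmq⟩
    show g.left (j w) ∈ _
    have hsp : wz (j w) ⤳ w := j.isEmbedding.isInducing.specializes_iff.1 (by rw [hwz]; exact hmg _)
    have : mq (wz (j w)) = mq w := hsp.mem_open (hmqo (mq w)) rfl
    rw [← this]
    exact hg (j w)

include hS hξ in
/-- Restriction to the generic fibre is bijective on maps from smooth schemes to constant ones. -/
theorem bijective_map {G : Over S} (eG : G ≅ TwC.const S Z) (T : Over S) [Smooth T.hom] :
    Function.Bijective (fun g : T ⟶ G => (Over.pullback (S.fromSpecResidueField ξ)).map g) := by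
  let i := S.fromSpecResidueField ξ
  let tr : ((Over.pullback i).obj T ⟶ (Over.pullback i).obj G) → (genW ξ T ⟶ G) := fun h =>
    Over.homMk (h.left ≫ pullback.fst G.hom i) (by
      show (h.left ≫ pullback.fst G.hom i) ≫ G.hom = pullback.fst T.hom i ≫ T.hom
      rw [Category.assoc, pullback.condition, pullback.condition, ← Category.assoc]
      exact congrArg (· ≫ i) (Over.w h))
  have htr : Function.Injective tr := fun a b e => by
    apply Over.OverMorphism.ext
    apply pullback.hom_ext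
    · exact congrArg (fun φ => φ.left) e
    · exact (Over.w a).trans (Over.w b).symm
  have hcomm : ∀ g : T ⟶ G, tr ((Over.pullback i).map g) = genJ ξ T ≫ g := fun g => by
    apply Over.OverMorphism.ext
    simp [tr, i]
  obtain ⟨h1, h2⟩ := bijective_comp_genJ hS ξ hξ eG T
  refine ⟨fun a b e => h1 ?_, fun h => ?_⟩
  · show genJ ξ T ≫ a = genJ ξ T ≫ b
    rw [← hcomm, ← hcomm]; exact congrArg tr e
  · obtain ⟨g, hg⟩ := h2 (tr h)
    exact ⟨g, htr ((hcomm g).trans hg)⟩

end Generic

end GrothLib.TorsorTriv19
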