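import Groth.Agent.Lib.TorsorTriv19.Fibres
import Groth.Agent.Lib.Torsor21.EtaleGeneric
import Groth.Agent.Lib.TwConst.Clopen

/-!
# Twisted constant schemes over an irreducible geometrically unibranch base
-/

set_option autoImplicit false
set_option backward.isDefEq.respectTransparency false
set_option linter.style.haveILetI false

universe u

open CategoryTheory CategoryTheory.Limits AlgebraicGeometry

namespace GrothLib.TorsorTriv19

variable {S : Scheme.{u}} [IrreducibleSpace S] {Y : Scheme.{u}} (g : Y ⟶ S) [Etale g]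

theorem maximal_iff (z : Y) : (∀ w, w ⤳ z → w = z) ↔ g z = genericPoint S := by
  haveI : LocallyQuasiFinite g := GrothLib.EtBasicB.locallyQuasiFinite_of_unramified g
  refine ⟨fun h => (Unibranch.maximal_map g (Flat.generalizingMap g) z h _ (genericPoint_specializes (g z))).symm,
    fun h => Unibranch.maximal_of_locallyQuasiFinite g z fun y hy => ?_⟩
  rw [h] at hy ⊢
  exact Torsor21.eq_genericPoint_of_specializes hy

theorem component_facts (hS : ∀ s : S, CAlg2.IsGeomUnibranch (S.presheaf.stalk s)) :
    (∀ x : Y, ∃! l : Y, g l = genericPoint S ∧ x ∈ closure ({l} : Set Y)) ∧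
    (∀ l : Y, g l = genericPoint S → IsOpen (closure ({l} : Set Y))) := by
  refine ⟨fun x => ?_, fun l hl => isOpen_closure_of_maximal g hS ((maximal_iff g l).2 hl)⟩
  obtain ⟨l, hlx, hl⟩ := Unibranch.exists_maximal_generization x
  refine ⟨l, ⟨(maximal_iff g l).1 hl, hlx.mem_closure⟩, fun m ⟨hm, hxm⟩ => ?_⟩
  exact eq_of_maximal_of_smooth g hS (specializes_iff_mem_closure.2 hxm) hlx ((maximal_iff g m).2 hm) hl

/-- On the component of a point over the generic point, that point is the only one over the generic
point. -/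
theorem eq_of_mem_component (hS : ∀ s : S, CAlg2.IsGeomUnibranch (S.presheaf.stalk s)) {l y : Y}
    (hl : g l = genericPoint S) (hy : y ∈ closure ({l} : Set Y)) (hgy : g y = genericPoint S) : y = l :=
  eq_of_maximal_of_smooth g hS specializes_rfl (specializes_iff_mem_closure.2 hy)
    ((maximal_iff g y).2 hgy) ((maximal_iff g l).2 hl)

/-- A component of an étale separated scheme with a rational point over the generic point is a copy of
the base, if it is surjective. -/
theorem isIso_component [IsSeparated g] (hS : ∀ s : S, CAlg2.IsGeomUnibranch (S.presheaf.stalk s))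
    {U : Y.Opens} {l : Y} (hU : (U : Set Y) = closure {l}) (hl : g l = genericPoint S)
    [Surjective (U.ι ≫ g)] (hres : Function.Surjective (g.residueFieldMap l)) : IsIso (U.ι ≫ g) := by
  let π := U.ι ≫ g
  haveI : Surjective (pullback.diagonal π) := ⟨fun q => by
    obtain ⟨q', hq', hq'η⟩ := Torsor21.exists_generization (pullback.fst π π ≫ π) q
    let uq := (pullback π π).fromSpecResidueField q'
    have hpts : ∀ (c : pullback π π ⟶ U.toScheme), c ≫ π = pullback.fst π π ≫ π →
        ∀ t, ((uq ≫ c) ≫ U.ι) t = l := fun c hc t => by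
      refine eq_of_mem_component g hS hl (hU.subset ((uq ≫ c) t).2) ?_
      show g (U.ι (c (uq t))) = genericPoint S
      rw [Scheme.fromSpecResidueField_apply]
      exact (congrArg (fun φ => φ q') hc).trans hq'η
    have h : uq ≫ pullback.fst π π = uq ≫ pullback.snd π π := (cancel_mono U.ι).1
      (hom_ext_of_surjective_residue g l hres _ _ (hpts _ rfl) (hpts _ pullback.condition.symm) (by
        simp only [Category.assoc]
        exact congrArg (uq ≫ ·) (pullback.condition (f := π) (g := π))))
    have hu' : (uq ≫ pullback.fst π π) ≫ pullback.diagonal π = uq := by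
      apply pullback.hom_ext
      · simp
      · simpa using h
    have hq'r : q' ∈ Set.range (pullback.diagonal π) := by
      refine ⟨(uq ≫ pullback.fst π π) (IsLocalRing.closedPoint _), ?_⟩
      rw [← Scheme.Hom.comp_apply, hu']
      exact (pullback π π).fromSpecResidueField_apply q' _
    exact hq'.mem_closed (pullback.diagonal π).isClosedMap.isClosed_range hq'r⟩
  haveI : IsIso (pullback.diagonal π) :=
    (isIso_iff_isOpenImmersion_and_surjective _).2 ⟨inferInstance, inferInstance⟩
  haveI : Mono π := (pullback.isIso_diagonal_iff π).1 inferInstance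
  haveI : IsOpenImmersion π := IsOpenImmersion.of_flat_of_mono π
  exact (isIso_iff_isOpenImmersion_and_surjective π).2 ⟨inferInstance, inferInstance⟩

/-- A component of an étale scheme which becomes constant over étale charts is finite. -/
theorem isFinite_component [IsSeparated g] (hS : ∀ s : S, CAlg2.IsGeomUnibranch (S.presheaf.stalk s))
    {U : Y.Opens} {l : Y} (hU : (U : Set Y) = closure {l}) (hl : g l = genericPoint S)
    (hloc : ∀ s : S, ∃ (S' : Scheme.{u}) (f : S' ⟶ S), Etale f ∧ s ∈ Set.range f ∧
      ∃ I : Type u, Nonempty (Over.mk (pullback.snd g f) ≅ TwC.const S' I)) : IsFinite (U.ι ≫ g) := by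
  let π := U.ι ≫ g
  haveI : IsClosedImmersion U.ι :=
    IsClosedImmersion.of_isPreimmersion _ (by rw [Scheme.Opens.range_ι, hU]; exact isClosed_closure)
  haveI : LocallyQuasiFinite g := GrothLib.EtBasicB.locallyQuasiFinite_of_unramified g
  have hπfib : (π ⁻¹' {genericPoint S}).Subsingleton := fun a ha b hb =>
    U.ι.isOpenEmbedding.injective ((eq_of_mem_component g hS hl (hU.subset a.2) ha).trans
      (eq_of_mem_component g hS hl (hU.subset b.2) hb).symm)
  choose S' f hf hs I he using hloc
  choose s' hs' using hs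
  choose mg hmg hmax using fun s => Unibranch.exists_maximal_generization (s' s)
  have hW : ∀ s, ∃ W : (S' s).Opens, IsAffineOpen W ∧ s' s ∈ W ∧
      (W : Set (S' s)) ⊆ closure {mg s} := fun s => by
    haveI := hf s
    obtain ⟨W, hW, hsW, hWsub⟩ := exists_isAffineOpen_mem_and_subset
      (U := (⟨closure {mg s}, isOpen_closure_of_maximal (f s) hS (hmax s)⟩ : (S' s).Opens)) (x := s' s)
      ((hmg s).mem_closure)
    exact ⟨W, hW, hsW, hWsub⟩
  choose W hWa hsW hWsub using hW
  let κ : ∀ s, (W s).toScheme ⟶ S := fun s => (W s).ι ≫ f s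
  haveI : ∀ s, Etale (κ s) := fun s => haveI := hf s; inferInstance
  let 𝒰 : Scheme.Cover (Scheme.precoverage @Etale) S :=
    { I₀ := S, X := fun s => (W s).toScheme, f := κ
      mem₀ := by
        rw [Scheme.presieve₀_mem_precoverage_iff]
        exact ⟨fun s => ⟨s, ⟨s' s, hsW s⟩, hs' s⟩, fun s => inferInstance⟩ }
  haveI : QuasiCompactCover 𝒰.toPreZeroHypercover :=
    QuasiCompactCover.of_isOpenMap fun s => (κ s).isOpenMap
  haveI := GrothLib.EtSite.descendsAlong_isFinite.{u}
  refine FpqcCov.of_fpqc @IsFinite.{u} inferInstance π 𝒰.toPreZeroHypercover (fun (s : S) => show Flat (κ s) from inferInstance) fun (s : S) => ?_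
  show IsFinite (pullback.snd π (κ s))
  haveI := hf s
  haveI : IsAffine (W s : Scheme.{u}) := hWa s
  let η' := mg s
  have hηW : η' ∈ W s := (hmg s).mem_open (W s).2 (hsW s)
  let w₀ : (W s).toScheme := ⟨η', hηW⟩
  have hw₀ : κ s w₀ = genericPoint S := (maximal_iff (f s) η').1 (hmax s)
  have hgen : ∀ v : (W s).toScheme, w₀ ⤳ v := fun v =>
    (W s).ι.isOpenEmbedding.isInducing.specializes_iff.1 (specializes_iff_mem_closure.2 (hWsub s v.2))
  haveI : LocallyQuasiFinite π := inferInstance
  obtain ⟨e⟩ := he s
  obtain ⟨e'⟩ := GrothLib.TwConst.nonempty_iso_precomp g (f s) (W s).ι (I s) e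
  obtain ⟨σ, h1, h2, h3, h4⟩ := GrothLib.TwConst.exists_sections _ (I s) e'
  let jj : pullback π (κ s) ⟶ pullback g (κ s) := pullback.map _ _ _ _ U.ι (𝟙 _) (𝟙 S) (by simp [π]) (by simp)
  have hjj : jj ≫ pullback.snd g (κ s) = pullback.snd π (κ s) := (pullback.lift_snd _ _ _).trans (Category.comp_id _)
  have hjsq : IsPullback (pullback.fst π (κ s)) jj U.ι (pullback.fst g (κ s)) := by
    refine IsPullback.of_bot ?_ (pullback.lift_fst _ _ _).symm (IsPullback.of_hasPullback g (κ s))
    rw [hjj]
    exact IsPullback.of_hasPullback _ _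
  haveI : IsOpenImmersion jj := MorphismProperty.of_isPullback (P := @IsOpenImmersion) hjsq inferInstance
  haveI : IsClosedImmersion jj := MorphismProperty.of_isPullback (P := @IsClosedImmersion) hjsq inferInstance
  let N := {i : I s // ∃ v, σ i v ∈ Set.range jj}
  have hclopen : IsClopen (Set.range jj) := ⟨jj.isClosedEmbedding.isClosed_range, jj.isOpenEmbedding.isOpen_range⟩
  have hN : ∀ i : N, σ i.1 w₀ ∈ Set.range jj := fun i => by
    obtain ⟨v, hv⟩ := i.2
    exact ((hgen v).map (σ i.1).continuous).mem_open hclopen.isOpen hv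
  have hsnd : ∀ i v, pullback.snd g (κ s) (σ i v) = v := fun i v => congrArg (fun φ => φ v) (h2 i)
  haveI : Finite N := by
    choose y hy using hN
    have hfin : (pullback.snd π (κ s) ⁻¹' {w₀}).Finite := by
      let η := genericPoint S
      let F := π.fiber η
      haveI : Subsingleton F :=
        ⟨fun a b => (π.fiberι η).isEmbedding.injective (hπfib
          (by rw [← Scheme.Hom.range_fiberι]; exact ⟨a, rfl⟩) (by rw [← Scheme.Hom.range_fiberι]; exact ⟨b, rfl⟩))⟩
      haveI : IsAffine F := by
        rcases isEmpty_or_nonempty F with h | ⟨⟨a⟩⟩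
        · infer_instance
        · obtain ⟨N₀, hN₀, haN, -⟩ := exists_isAffineOpen_mem_and_subset (U := (⊤ : F.Opens)) (x := a) trivial
          haveI : IsAffine (N₀ : Scheme.{u}) := hN₀
          haveI : Surjective N₀.ι := ⟨fun b => ⟨⟨b, Subsingleton.elim a b ▸ haN⟩, rfl⟩⟩
          haveI : IsIso N₀.ι := (isIso_iff_isOpenImmersion_and_surjective _).2 ⟨inferInstance, inferInstance⟩
          exact IsAffine.of_isIso (inv N₀.ι)
      let pF : F ⟶ Spec (S.residueField η) := π.fiberToSpecResidueField η
      haveI : IsAffineHom pF := isAffineHom_of_isAffine _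
      haveI : LocallyQuasiFinite pF :=
        inferInstanceAs (LocallyQuasiFinite (pullback.snd π (S.fromSpecResidueField η)))
      haveI : LocallyOfFiniteType pF :=
        inferInstanceAs (LocallyOfFiniteType (pullback.snd π (S.fromSpecResidueField η)))
      haveI : IsFinite pF := IsFinite.of_locallyQuasiFinite pF
      let ιw := (W s).toScheme.fromSpecResidueField w₀
      obtain ⟨c, hc⟩ : ∃ c : Spec ((W s).toScheme.residueField w₀) ⟶ Spec (S.residueField η),
          c ≫ S.fromSpecResidueField η = ιw ≫ κ s := by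
        show ∃ c : Spec ((W s).toScheme.residueField w₀) ⟶ Spec (S.residueField (genericPoint S)),
          c ≫ S.fromSpecResidueField (genericPoint S) = ιw ≫ κ s
        rw [← hw₀]
        exact ⟨Spec.map ((κ s).residueFieldMap w₀), (κ s).SpecMap_residueFieldMap_fromSpecResidueField w₀⟩
      have hfib : pF ≫ S.fromSpecResidueField η = π.fiberι η ≫ π := (pullback.condition).symm
      let m := pullback.map pF c π (κ s) (π.fiberι η) ιw (S.fromSpecResidueField η) hfib hc
      haveI : Finite (pullback pF c : Scheme.{u}) := by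
        refine Set.finite_univ_iff.1 ?_
        have h := (pullback.snd pF c).finite_preimage_singleton (IsLocalRing.closedPoint ((W s).toScheme.residueField w₀))
        refine h.subset fun q _ => ?_
        exact Subsingleton.elim _ _
      refine (Set.finite_range m).subset fun q hq => ?_
      rw [Scheme.Pullback.range_map]
      refine ⟨?_, ?_⟩
      · show pullback.fst π (κ s) q ∈ Set.range (π.fiberι η)
        rw [Scheme.Hom.range_fiberι]
        show π (pullback.fst π (κ s) q) = genericPoint S
        rw [← Scheme.Hom.comp_apply, pullback.condition, Scheme.Hom.comp_apply, show pullback.snd π (κ s) q = w₀ from hq]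
        exact hw₀
      · show pullback.snd π (κ s) q ∈ Set.range ιw
        rw [Scheme.range_fromSpecResidueField]
        exact hq
    have hinj : Function.Injective y := fun i i' h => Subtype.ext (h3 _ _ w₀ w₀ (by rw [← hy, ← hy, h]))
    haveI := hfin.to_subtype
    exact Finite.of_injective (fun i => (⟨y i, by
      show pullback.snd π (κ s) (y i) = w₀
      rw [← hjj, Scheme.Hom.comp_apply, hy, hsnd]⟩ : pullback.snd π (κ s) ⁻¹' {w₀})) (fun i i' h => hinj (congrArg Subtype.val h))
  have hmem : ∀ q, ∃ i : N, ∃ v, σ i.1 v = jj q := fun q => by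
    obtain ⟨i, v, hv⟩ := h4 (jj q)
    exact ⟨⟨i, v, hv ▸ ⟨q, rfl⟩⟩, v, hv⟩
  let d := Sigma.desc fun i : N => σ i.1
  haveI : IsOpenImmersion d := by
    haveI := fun i : N => h1 i.1
    refine isOpenImmersion_sigmaDesc _ _ fun a b hab => ?_
    simp only [Function.onFun, Set.disjoint_left]
    rintro _ ⟨t, rfl⟩ ⟨t', h⟩
    exact hab (Subtype.ext (h3 _ _ _ _ h).symm)
  let jN : pullback π (κ s) ⟶ ∐ fun _ : N => (W s).toScheme := IsOpenImmersion.lift d jj (by
    rintro _ ⟨q, rfl⟩
    obtain ⟨i, v, hv⟩ := hmem q
    exact ⟨Sigma.ι (fun _ : N => (W s).toScheme) i v, by rw [← Scheme.Hom.comp_apply, Sigma.ι_desc]; exact hv⟩)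
  have hjN : jN ≫ d = jj := IsOpenImmersion.lift_fac _ _ _
  have hfac : pullback.snd π (κ s) = jN ≫ Sigma.desc fun _ : N => 𝟙 (W s).toScheme := by
    have hd : d ≫ pullback.snd g (κ s) = Sigma.desc fun _ : N => 𝟙 (W s).toScheme := by
      apply Sigma.hom_ext
      intro i
      simp only [d, Sigma.ι_desc_assoc, Sigma.ι_desc]
      exact h2 i.1
    refine hjj.symm.trans ?_
    exact ((congrArg (· ≫ pullback.snd g (κ s)) hjN).symm.trans (Category.assoc _ _ _)).trans (congrArg (jN ≫ ·) hd)
  haveI : IsClosedImmersion (jN ≫ d) := by rw [hjN]; infer_instance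
  haveI : IsClosedImmersion jN := IsClosedImmersion.of_comp jN d
  haveI := GrothLib.TwConst.isFinite_sigma_id (W s).toScheme N
  rw [hfac]
  infer_instance

end GrothLib.TorsorTriv19
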